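import Cfsg.Agent.H139.Cusp.Main
import Mathlib.LinearAlgebra.Eigenspace.Minpoly
import Mathlib.LinearAlgebra.Eigenspace.Charpoly
import Mathlib.LinearAlgebra.Charpoly.BaseChange
import Mathlib.RingTheory.TensorProduct.Finite
import Mathlib.LinearAlgebra.Quotient.Basic
import Cfsg.Agent.H139.Cusp.Adams
import Cfsg.Agent.H139.Cusp.Orth
set_option linter.all false

-- part: H139/Cusp/Formula
section
/-!
# The value of `kap` at an arbitrary endomorphism
-/

set_option autoImplicit false

open Polynomial

namespace Cfsg.Agent.H139.Cusp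

universe u v v'

attribute [local instance] fintypeHom fintypeSub finite_quot

section

variable {F : Type u} [Field F]
variable {V : Type v} [AddCommGroup V] [Module F V] [Finite V]

/-! ### polynomials in an endomorphism -/

omit [Finite V] in
theorem aeval_mem {g : V →ₗ[F] V} {W : Submodule F V} (hW : W ≤ W.comap g) (p : F[X]) {v : V} (hv : v ∈ W) :
    aeval g p v ∈ W := by
  induction p using Polynomial.induction_on' with
  | add p q hp hq => rw [map_add, LinearMap.add_apply]; exact W.add_mem hp hq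
  | monomial n a =>
    rw [aeval_monomial, Module.End.mul_apply, Module.algebraMap_end_apply]
    apply W.smul_mem
    induction n with
    | zero => exact hv
    | succ n ih => rw [pow_succ', Module.End.mul_apply]; exact hW ih

omit [Finite V] in
theorem aeval_comm (g : V →ₗ[F] V) (p : F[X]) : aeval g p * g = g * aeval g p := by
  have h1 : aeval g p * aeval g (X : F[X]) = aeval g (X : F[X]) * aeval g p := by
    rw [← map_mul, ← map_mul, mul_comm]
  rwa [aeval_X] at h1

omit [Finite V] in
theorem ker_aeval_inv (g : V →ₗ[F] V) (p : F[X]) :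
    LinearMap.ker (aeval g p) ≤ (LinearMap.ker (aeval g p)).comap g := by
  intro v hv
  rw [Submodule.mem_comap, LinearMap.mem_ker]
  rw [LinearMap.mem_ker] at hv
  rw [← Module.End.mul_apply, aeval_comm, Module.End.mul_apply, hv, map_zero]

omit [Finite V] in
theorem range_aeval_inv (g : V →ₗ[F] V) (p : F[X]) :
    LinearMap.range (aeval g p) ≤ (LinearMap.range (aeval g p)).comap g := by
  rintro _ ⟨v, rfl⟩
  rw [Submodule.mem_comap]
  exact ⟨g v, LinearMap.congr_fun (aeval_comm g p) v⟩

theorem ker_aeval_ne_bot {g : V →ₗ[F] V} {f : F[X]} (hirr : Irreducible f) (hdvd : f ∣ g.charpoly) :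
    LinearMap.ker (aeval g f) ≠ ⊥ := by
  have : Fact (Irreducible f) := ⟨hirr⟩
  let K := AdjoinRoot f
  have hroot : (g.charpoly.map (algebraMap F K)).IsRoot (AdjoinRoot.root f) := by
    rw [IsRoot.def, eval_map_algebraMap, AdjoinRoot.aeval_eq, AdjoinRoot.mk_eq_zero]
    exact hdvd
  rw [← LinearMap.charpoly_baseChange, ← Module.End.hasEigenvalue_iff_isRoot_charpoly] at hroot
  obtain ⟨v, hv⟩ := hroot.exists_hasEigenvector
  have h1 := Module.End.aeval_apply_of_hasEigenvector (p := f.map (algebraMap F K)) hv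
  have h2 : (f.map (algebraMap F K)).eval (AdjoinRoot.root f) = 0 := by
    rw [eval_map_algebraMap, AdjoinRoot.aeval_eq, AdjoinRoot.mk_self]
  rw [h2, zero_smul] at h1
  have h3 : aeval (g.baseChange K) (f.map (algebraMap F K)) = (aeval g f : Module.End F V).baseChange K := by
    rw [aeval_map_algebraMap]
    exact aeval_algHom_apply (Module.End.baseChangeHom F K V) g f
  rw [h3] at h1
  intro h
  have h4 : Function.Injective ((aeval g f : Module.End F V).baseChange K) := by
    have h5 : LinearMap.det (aeval g f : Module.End F V) ≠ 0 := by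
      intro h0
      exact (LinearMap.bot_lt_ker_of_det_eq_zero h0).ne' h
    rw [← LinearMap.ker_eq_bot]
    by_contra hne
    have h6 : LinearMap.det ((aeval g f : Module.End F V).baseChange K) ≠ 0 := by
      rw [LinearMap.det_baseChange]
      exact fun h0 => h5 ((algebraMap F K).injective (by rw [h0, map_zero]))
    apply hne
    exact LinearMap.ker_eq_bot_of_injective (LinearMap.equivOfDetNeZero _ h6).injective
  exact hv.2 (h4 (h1.trans (map_zero _).symm))

omit [Finite V] in
theorem ker_aeval_mono {g : V →ₗ[F] V} {p q : F[X]} (h : p ∣ q) :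
    LinearMap.ker (aeval g p) ≤ LinearMap.ker (aeval g q) := by
  obtain ⟨c, rfl⟩ := h
  intro v hv
  rw [LinearMap.mem_ker] at hv ⊢
  rw [mul_comm, map_mul, Module.End.mul_apply, hv, map_zero]

variable (B : F[X] → ℂ)

/-- `kap` vanishes if the characteristic polynomial is a product of coprime factors. -/
theorem kap_coprime (hB : ∀ p q : F[X], p.Monic → q.Monic → B (p * q) = B p + B q)
    {g : V →ₗ[F] V} {p q : F[X]} (hpq : g.charpoly = p * q) (hp : ¬ IsUnit p) (hq : ¬ IsUnit q)
    (hc : IsCoprime p q) : kap B g ⊤ = 0 := by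
  have h0 : g.charpoly ≠ 0 := (LinearMap.charpoly_monic g).ne_zero
  have hp0 : p ≠ 0 := by
    rintro rfl
    exact h0 (by rw [hpq, zero_mul])
  have hq0 : q ≠ 0 := by
    rintro rfl
    exact h0 (by rw [hpq, mul_zero])
  have hd := disjoint_ker_aeval_of_isCoprime g hc
  have hne : ∀ r s : F[X], r ≠ 0 → ¬ IsUnit r → g.charpoly = r * s → LinearMap.ker (aeval g r) ≠ ⊥ := by
    intro r s hr0 hr hrs h
    obtain ⟨f, hf, hfr⟩ := WfDvdMonoid.exists_irreducible_factor hr hr0
    apply ker_aeval_ne_bot (g := g) hf (hfr.trans ⟨s, hrs⟩)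
    exact le_bot_iff.1 ((ker_aeval_mono hfr).trans h.le)
  obtain ⟨a, b, hab⟩ := hc
  refine kap_of_compl B hB hd (ker_aeval_inv g p) (ker_aeval_inv g q) ?_ ⊤ ?_ ?_
  · intro W hW
    apply le_antisymm
    · intro x hx
      have h1 : aeval g (a * p) x + aeval g (b * q) x = x := by
        rw [← LinearMap.add_apply, ← map_add, hab, map_one]
        rfl
      rw [← h1, add_comm]
      have hz : aeval g (p * q) = 0 := by rw [← hpq]; exact LinearMap.aeval_self_charpoly g
      refine Submodule.add_mem_sup ⟨aeval_mem hW _ hx, ?_⟩ ⟨aeval_mem hW _ hx, ?_⟩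
      · show aeval g p (aeval g (b * q) x) = 0
        rw [← Module.End.mul_apply, ← map_mul, show p * (b * q) = b * (p * q) by ring, map_mul, hz, mul_zero]
        rfl
      · show aeval g q (aeval g (a * p) x) = 0
        rw [← Module.End.mul_apply, ← map_mul, show q * (a * p) = a * (p * q) by ring, map_mul, hz, mul_zero]
        rfl
    · exact sup_le inf_le_left inf_le_left
  · rw [top_inf_eq]
    exact hne p q hp0 hp hpq
  · rw [top_inf_eq]
    exact hne q p hq0 hq (by rw [hpq, mul_comm])

/-- The characteristic polynomial is a power of an irreducible, or `kap` vanishes. -/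
theorem kap_eq_zero_or (hB : ∀ p q : F[X], p.Monic → q.Monic → B (p * q) = B p + B q)
    [Nontrivial V] (g : V →ₗ[F] V) :
    (∃ (f : F[X]) (m : ℕ), f.Monic ∧ Irreducible f ∧ 0 < m ∧ g.charpoly = f ^ m) ∨ kap B g ⊤ = 0 := by
  have hmon := LinearMap.charpoly_monic g
  have hnu : ¬ IsUnit g.charpoly := by
    intro h1
    rw [hmon.isUnit_iff] at h1
    have h2 := LinearMap.charpoly_natDegree g
    rw [h1, natDegree_one] at h2
    exact (Module.finrank_pos (R := F) (M := V)).ne h2
  obtain ⟨f, hf, hirr, hfh⟩ := exists_monic_irreducible_factor _ hnu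
  obtain ⟨m, c, hndvd, hc⟩ := WfDvdMonoid.max_power_factor hmon.ne_zero hirr
  have hm : 0 < m := by
    rcases Nat.eq_zero_or_pos m with h0 | h0
    · exfalso
      apply hndvd
      rw [h0, pow_zero, one_mul] at hc
      rwa [← hc]
    · exact h0
  have hcm : c.Monic := by
    rw [hc] at hmon
    exact (hf.pow m).of_mul_monic_left hmon
  by_cases hcu : IsUnit c
  · left
    refine ⟨f, m, hf, hirr, hm, ?_⟩
    rw [hcm.isUnit_iff] at hcu
    rw [hc, hcu, mul_one]
  · right
    refine kap_coprime B hB hc ?_ hcu ?_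
    · intro h
      exact hirr.not_isUnit ((isUnit_pow_iff hm.ne').1 h)
    · exact ((hirr.coprime_iff_not_dvd).2 hndvd).pow_left

/-! ### reduction to the largest semisimple quotient -/

open Classical in
theorem kap_top_quot (hB : ∀ p q : F[X], p.Monic → q.Monic → B (p * q) = B p + B q)
    {g : V →ₗ[F] V} {R : Submodule F V} (hR : R ≤ R.comap g) (hne : R ≠ ⊤)
    (hmax : ∀ W : Submodule F V, W ≤ W.comap g → W ⊔ R = ⊤ → W = ⊤) :
    kap B g ⊤ = kap B (R.mapQ R g hR) ⊤ := by
  let S : Submodule F (V ⧸ R) → ℂ := fun U =>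
    ∑ W ∈ Finset.univ.filter (fun W : Submodule F V => W.map R.mkQ = U), kap B g W
  have hmapinv : ∀ W : Submodule F V, W ≤ W.comap g → W.map R.mkQ ≤ (W.map R.mkQ).comap (R.mapQ R g hR) := by
    rintro W hW _ ⟨w, hw, rfl⟩
    exact ⟨g w, hW hw, rfl⟩
  have hcomap : ∀ U : Submodule F (V ⧸ R), U ≤ U.comap (R.mapQ R g hR) →
      U.comap R.mkQ ≤ (U.comap R.mkQ).comap g := fun U hU x hx => hU hx
  have hsum : ∀ (U : Submodule F (V ⧸ R)) (hU : U ≤ U.comap (R.mapQ R g hR)),
      ∑ U' ∈ Finset.univ.filter (· ≤ U), S U' = B (g.restrict hR).charpoly + B ((R.mapQ R g hR).restrict hU).charpoly := by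
    intro U hU
    have hcU := hcomap U hU
    have h1 : ∑ U' ∈ Finset.univ.filter (· ≤ U), S U' =
        ∑ W ∈ Finset.univ.filter (fun W : Submodule F V => W ≤ U.comap R.mkQ), kap B g W := by
      rw [← Finset.sum_fiberwise_of_maps_to (s := Finset.univ.filter (fun W : Submodule F V => W ≤ U.comap R.mkQ))
        (t := Finset.univ.filter (· ≤ U)) (g := fun W => W.map R.mkQ)]
      · refine Finset.sum_congr rfl fun U' hU' => ?_
        refine Finset.sum_congr ?_ fun _ _ => rfl
        rw [Finset.mem_filter] at hU'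
        ext W
        simp only [Finset.mem_filter, Finset.mem_univ, true_and]
        constructor
        · intro h
          refine ⟨?_, h⟩
          rw [← Submodule.map_le_iff_le_comap, h]
          exact hU'.2
        · exact fun h => h.2
      · intro W hW
        rw [Finset.mem_filter] at hW ⊢
        exact ⟨Finset.mem_univ _, Submodule.map_le_iff_le_comap.2 hW.2⟩
    rw [h1, kap_sum B hcU]
    -- the characteristic polynomial on the preimage
    let R' : Submodule F (U.comap R.mkQ) := R.comap (U.comap R.mkQ).subtype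
    have hRU : R ≤ U.comap R.mkQ := by
      intro x hx
      rw [Submodule.mem_comap, (mkQ_zero_iff R x).2 hx]
      exact U.zero_mem
    have hR' : R' ≤ R'.comap (g.restrict hcU) := fun x hx => hR hx
    rw [charpoly_eq_mul R' (g.restrict hcU) hR', hB _ _ (LinearMap.charpoly_monic _) (LinearMap.charpoly_monic _)]
    congr 2
    · exact (charpoly_conj_eq (Submodule.comapSubtypeEquivOfLe hRU) fun v => rfl).symm
    · let j : (U.comap R.mkQ) →ₗ[F] U := R.mkQ.restrict fun x hx => hx
      have hj : Function.Surjective j := by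
        rintro ⟨y, hy⟩
        obtain ⟨x, rfl⟩ := R.mkQ_surjective y
        exact ⟨⟨x, hy⟩, rfl⟩
      have hker : LinearMap.ker j = R' := by
        ext x
        rw [LinearMap.mem_ker]
        constructor
        · intro h
          have h2 : R.mkQ (x : V) = 0 := congrArg Subtype.val h
          exact (mkQ_zero_iff R _).1 h2
        · intro h
          exact Subtype.ext ((mkQ_zero_iff R _).2 h)
      have e : (↥(U.comap R.mkQ) ⧸ R') ≃ₗ[F] U :=
        (Submodule.quotEquivOfEq _ _ hker.symm).trans (LinearMap.quotKerEquivOfSurjective j hj)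
      refine (charpoly_conj_eq ((Submodule.quotEquivOfEq _ _ hker.symm).trans
        (LinearMap.quotKerEquivOfSurjective j hj)) ?_).symm
      intro v
      obtain ⟨x, rfl⟩ := R'.mkQ_surjective v
      rfl
  have h2 : ∀ U : Submodule F (V ⧸ R), (S U - if U = ⊥ then B (g.restrict hR).charpoly else 0) =
      kap B (R.mapQ R g hR) U := by
    refine kap_unique B ?_ ?_
    · intro U hU
      have hbot : U ≠ ⊥ := by
        rintro rfl
        exact hU bot_le
      rw [if_neg hbot, sub_zero]
      refine Finset.sum_eq_zero fun W hW => kap_of_not B fun h => hU ?_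
      rw [← (Finset.mem_filter.1 hW).2]
      exact hmapinv W h
    · intro U hU
      rw [Finset.sum_sub_distrib, hsum U hU, Finset.sum_ite_eq', if_pos]
      · ring
      · exact Finset.mem_filter.2 ⟨Finset.mem_univ _, bot_le⟩
  have h3 := h2 ⊤
  have htb : (⊤ : Submodule F (V ⧸ R)) ≠ ⊥ := by
    intro h
    apply hne
    rw [eq_top_iff]
    intro x _
    rw [← mkQ_zero_iff]
    have : R.mkQ x ∈ (⊤ : Submodule F (V ⧸ R)) := Submodule.mem_top
    rw [h, Submodule.mem_bot] at this
    exact this
  rw [if_neg htb, sub_zero] at h3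
  rw [← h3]
  symm
  refine Finset.sum_eq_single (⊤ : Submodule F V) ?_ ?_
  · intro W hW hWt
    refine kap_of_not B fun h => hWt (hmax W h ?_)
    have h4 := (Finset.mem_filter.1 hW).2
    rw [eq_top_iff]
    intro x _
    have h5 : R.mkQ x ∈ W.map R.mkQ := h4 ▸ Submodule.mem_top
    obtain ⟨w, hw, hwx⟩ := h5
    rw [← sub_add_cancel x w, add_comm]
    refine Submodule.add_mem_sup hw ?_
    rw [← mkQ_zero_iff, map_sub, hwx, sub_self]
  · intro h
    exfalso
    apply h
    rw [Finset.mem_filter]
    refine ⟨Finset.mem_univ _, ?_⟩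
    rw [Submodule.map_top, R.range_mkQ]

end

/-! ### modules over the residue field -/

section field

variable {F : Type u} [Field F] (f : F[X]) [hirr : Fact (Irreducible f)]

/-- multiplication by the root on a vector space over the residue field -/
noncomputable def rsm (Q : Type v) [AddCommGroup Q] [Module F Q] [Module (AdjoinRoot f) Q]
    [IsScalarTower F (AdjoinRoot f) Q] : Q →ₗ[F] Q :=
  Algebra.lsmul F F Q (AdjoinRoot.root f)

section

variable {Q : Type v} [AddCommGroup Q] [Module F Q] [Module (AdjoinRoot f) Q]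
    [IsScalarTower F (AdjoinRoot f) Q]

theorem rsm_apply (x : Q) : rsm f Q x = AdjoinRoot.root f • x := rfl

theorem aeval_rsm (p : F[X]) (x : Q) : aeval (rsm f Q) p x = AdjoinRoot.mk f p • x := by
  have h1 : aeval (Algebra.lsmul F F Q (AdjoinRoot.root f)) p =
      Algebra.lsmul F F Q (aeval (AdjoinRoot.root f) p) := aeval_algHom_apply _ _ _
  rw [rsm, h1, AdjoinRoot.aeval_eq]
  rfl

theorem rsm_inv (W : Submodule (AdjoinRoot f) Q) :
    W.restrictScalars F ≤ (W.restrictScalars F).comap (rsm f Q) :=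
  fun _ hx => W.smul_mem _ hx

/-- an invariant subspace is a subspace over the residue field -/
def upgrade {W : Submodule F Q} (hW : W ≤ W.comap (rsm f Q)) : Submodule (AdjoinRoot f) Q where
  carrier := W
  add_mem' := W.add_mem
  zero_mem' := W.zero_mem
  smul_mem' c x hx := by
    obtain ⟨p, rfl⟩ := AdjoinRoot.mk_surjective c
    rw [← aeval_rsm]
    exact aeval_mem hW p hx

theorem upgrade_restrictScalars {W : Submodule F Q} (hW : W ≤ W.comap (rsm f Q)) :
    (upgrade f hW).restrictScalars F = W := rfl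

end

theorem charpoly_rsm [Finite F] (hf : f.Monic) (n : ℕ) : ∀ (Q : Type v) [AddCommGroup Q] [Module F Q]
    [Module (AdjoinRoot f) Q] [IsScalarTower F (AdjoinRoot f) Q] [Finite Q],
    Module.finrank (AdjoinRoot f) Q = n → (rsm f Q).charpoly = f ^ n := by
  induction n with
  | zero =>
    intro Q _ _ _ _ _ hn
    rw [pow_zero]
    refine eq_one_of_monic_natDegree_zero (LinearMap.charpoly_monic _) ?_
    have : Subsingleton Q := Module.finrank_zero_iff.1 hn
    rw [LinearMap.charpoly_natDegree]
    exact Module.finrank_zero_of_subsingleton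
  | succ n ih =>
    intro Q _ _ _ _ _ hn
    have hnt : Nontrivial Q := Module.nontrivial_of_finrank_pos (R := AdjoinRoot f) (by omega)
    obtain ⟨v, hv⟩ := exists_ne (0 : Q)
    let W : Submodule (AdjoinRoot f) Q := Submodule.span (AdjoinRoot f) {v}
    have hfin : Module.Finite F (AdjoinRoot f) := (AdjoinRoot.powerBasis hf.ne_zero).finite
    have hfin2 : Finite (AdjoinRoot f) := finite_adjoin hf.ne_zero
    rw [charpoly_eq_mul (W.restrictScalars F) (rsm f Q) (rsm_inv f W), pow_succ, mul_comm]
    congr 1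
    · rw [← ih (Q ⧸ W)]
      · exact charpoly_conj_eq (Submodule.Quotient.restrictScalarsEquiv F W).symm fun x => by
          obtain ⟨y, rfl⟩ := W.mkQ_surjective x
          rfl
      · have h1 := W.finrank_quotient_add_finrank
        rw [finrank_span_singleton hv, hn] at h1
        omega
    · let e : AdjoinRoot f ≃ₗ[F] W.restrictScalars F :=
        ((LinearEquiv.toSpanNonzeroSingleton (AdjoinRoot f) Q v hv).trans
          (Submodule.restrictScalarsEquiv F (AdjoinRoot f) Q W).symm).restrictScalars F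
      refine Eq.trans (charpoly_conj_eq e (g := rootEnd f) fun x => ?_) (charpoly_rootEnd hf)
      apply Subtype.ext
      show AdjoinRoot.root f • (x • v) = (AdjoinRoot.root f * x) • v
      rw [mul_smul]

variable {f} in
theorem kap_rsm [Finite F] (B : F[X] → ℂ) (hB : ∀ p q : F[X], p.Monic → q.Monic → B (p * q) = B p + B q)
    (hf : f.Monic) {Q : Type v} [AddCommGroup Q] [Module F Q] [Module (AdjoinRoot f) Q]
    [IsScalarTower F (AdjoinRoot f) Q] [Finite Q] (U : Submodule (AdjoinRoot f) Q) :
    kap B (rsm f Q) (U.restrictScalars F) =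
      kap (fun h : (AdjoinRoot f)[X] => h.natDegree * B f) (1 : Q →ₗ[AdjoinRoot f] Q) U := by
  classical
  have hB1 : B 1 = 0 := by
    have := hB 1 1 monic_one monic_one
    rw [mul_one] at this
    linear_combination -this
  have hpow : ∀ m : ℕ, B (f ^ m) = m * B f := by
    intro m
    induction m with
    | zero => rw [pow_zero, hB1]; simp
    | succ m ihm =>
      rw [pow_succ, hB _ _ (hf.pow m) hf, ihm]
      push_cast
      ring
  refine kap_unique _ (k := fun U => kap B (rsm f Q) (U.restrictScalars F)) ?_ ?_ U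
  · intro W hW
    exact absurd (fun x hx => hx) hW
  · intro W hW
    show _ = (((1 : Q →ₗ[AdjoinRoot f] Q).restrict hW).charpoly.natDegree : ℂ) * B f
    rw [LinearMap.charpoly_natDegree, ← hpow, ← charpoly_rsm f hf _ W rfl]
    have h2 : (rsm f W).charpoly = ((rsm f Q).restrict (rsm_inv f W)).charpoly :=
      charpoly_conj_eq (V := W.restrictScalars F) (V' := W)
        ((Submodule.restrictScalarsEquiv F (AdjoinRoot f) Q W).restrictScalars F) fun x => rfl
    rw [h2, ← kap_sum B (rsm_inv f W)]
    refine Finset.sum_of_injOn (fun U => U.restrictScalars F) ?_ ?_ ?_ ?_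
    · intro U _ U' _ h
      exact Submodule.restrictScalars_injective F (AdjoinRoot f) Q h
    · intro U hU
      rw [Finset.mem_coe, Finset.mem_filter] at hU ⊢
      exact ⟨Finset.mem_univ _, fun x hx => hU.2 hx⟩
    · intro U hU hU'
      refine kap_of_not B fun h => hU' ?_
      refine ⟨upgrade f h, ?_, upgrade_restrictScalars f h⟩
      rw [Finset.mem_coe, Finset.mem_filter]
      exact ⟨Finset.mem_univ _, fun x hx => (Finset.mem_filter.1 hU).2 hx⟩
    · intro U _
      rfl

variable {f} in
theorem kap_rsm_top [Finite F] (B : F[X] → ℂ)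
    (hB : ∀ p q : F[X], p.Monic → q.Monic → B (p * q) = B p + B q)
    (hf : f.Monic) {Q : Type v} [AddCommGroup Q] [Module F Q] [Module (AdjoinRoot f) Q]
    [IsScalarTower F (AdjoinRoot f) Q] [Finite Q] {k : ℕ}
    (hk : Module.finrank F Q = f.natDegree * (k + 1)) :
    kap B (rsm f Q) ⊤ = B f * ∏ i ∈ Finset.range k, (1 - (Nat.card F : ℂ) ^ (f.natDegree * (i + 1))) := by
  have hfin : Finite (AdjoinRoot f) := finite_adjoin hf.ne_zero
  have hmf : Module.Finite F (AdjoinRoot f) := (AdjoinRoot.powerBasis hf.ne_zero).finite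
  have hdim : Module.finrank F (AdjoinRoot f) = f.natDegree := by
    rw [(AdjoinRoot.powerBasis hf.ne_zero).finrank, AdjoinRoot.powerBasis_dim]
  have h1 := kap_rsm B hB hf (Q := Q) ⊤
  rw [Submodule.restrictScalars_top] at h1
  have h2 : Module.finrank (AdjoinRoot f) Q = k + 1 := by
    have h3 := Module.finrank_mul_finrank F (AdjoinRoot f) Q
    rw [hdim, hk] at h3
    exact Nat.eq_of_mul_eq_mul_left hirr.out.natDegree_pos h3
  have h3 : Nat.card (AdjoinRoot f) = Nat.card F ^ f.natDegree := by
    rw [Module.natCard_eq_pow_finrank (K := F), hdim]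
  rw [h1, kap_one _ _ k Q h2, h3]
  · have h4 : (X - 1 : (AdjoinRoot f)[X]).natDegree = 1 := by
      rw [← C_1, natDegree_X_sub_C]
    rw [h4, Nat.cast_one, one_mul]
    congr 1
    refine Finset.prod_congr rfl fun i _ => ?_
    push_cast
    rw [pow_mul]
  · intro p q hp hq
    rw [hp.natDegree_mul hq]
    push_cast
    ring

end field

section

variable {F : Type u} [Field F] [Finite F]
variable {V : Type v} [AddCommGroup V] [Module F V] [Finite V]

omit [Finite F] [Finite V] in
theorem exists_module {f : F[X]} [hirr : Fact (Irreducible f)] {g : V →ₗ[F] V} (h0 : aeval g f = 0) :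
    ∃ (_ : Module (AdjoinRoot f) V) (_ : IsScalarTower F (AdjoinRoot f) V), rsm f V = g := by
  let φ : AdjoinRoot f →+* Module.End F V :=
    Ideal.Quotient.lift (Ideal.span {f}) (aeval g : F[X] →ₐ[F] Module.End F V).toRingHom (by
      intro p hp
      rw [Ideal.mem_span_singleton] at hp
      obtain ⟨c, rfl⟩ := hp
      show aeval g (f * c) = 0
      rw [map_mul, h0, zero_mul])
  have hφp : ∀ p, φ (AdjoinRoot.mk f p) = aeval g p := fun p => rfl
  have hφ : φ (AdjoinRoot.root f) = g := by rw [← AdjoinRoot.mk_X, hφp, aeval_X]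
  let hm : Module (AdjoinRoot f) V := Module.compHom V φ
  have hsm : ∀ (c : AdjoinRoot f) (x : V), c • x = φ c x := fun _ _ => rfl
  have hst : IsScalarTower F (AdjoinRoot f) V := ⟨fun a c x => by
    obtain ⟨p, rfl⟩ := AdjoinRoot.mk_surjective c
    rw [hsm, hsm, AdjoinRoot.smul_mk, hφp, hφp, map_smul]
    rfl⟩
  refine ⟨hm, hst, ?_⟩
  apply LinearMap.ext
  intro x
  rw [rsm_apply, hsm, hφ]

theorem kap_of_aeval_eq_zero (B : F[X] → ℂ)
    (hB : ∀ p q : F[X], p.Monic → q.Monic → B (p * q) = B p + B q)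
    {f : F[X]} (hf : f.Monic) (hirr : Irreducible f) {g : V →ₗ[F] V} (h0 : aeval g f = 0) {k : ℕ}
    (hk : Module.finrank F V = f.natDegree * (k + 1)) :
    kap B g ⊤ = B f * ∏ i ∈ Finset.range k, (1 - (Nat.card F : ℂ) ^ (f.natDegree * (i + 1))) := by
  have : Fact (Irreducible f) := ⟨hirr⟩
  obtain ⟨hm, hst, hg⟩ := exists_module h0
  rw [← hg]
  exact kap_rsm_top B hB hf hk

omit [Finite F] in
theorem natDegree_dvd_of_aeval_eq_zero {f : F[X]} (hirr : Irreducible f) {g : V →ₗ[F] V} (h0 : aeval g f = 0) :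
    f.natDegree ∣ Module.finrank F V := by
  have : Fact (Irreducible f) := ⟨hirr⟩
  obtain ⟨hm, hst, -⟩ := exists_module h0
  have hmf : Module.Finite F (AdjoinRoot f) := (AdjoinRoot.powerBasis hirr.ne_zero).finite
  have hdim : Module.finrank F (AdjoinRoot f) = f.natDegree := by
    rw [(AdjoinRoot.powerBasis hirr.ne_zero).finrank, AdjoinRoot.powerBasis_dim]
  rw [← Module.finrank_mul_finrank F (AdjoinRoot f) V, hdim]
  exact dvd_mul_right _ _

omit [Finite F] [Finite V] in
theorem aeval_restrict {g : V →ₗ[F] V} {W : Submodule F V} (hW : W ≤ W.comap g) (p : F[X]) (x : W) :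
    (aeval (g.restrict hW) p x : V) = aeval g p x := by
  induction p using Polynomial.induction_on' with
  | add p q hp hq =>
    rw [map_add, map_add, LinearMap.add_apply, LinearMap.add_apply, Submodule.coe_add, hp, hq]
  | monomial n a =>
    rw [aeval_monomial, aeval_monomial, Module.End.mul_apply, Module.algebraMap_end_apply,
      Module.End.mul_apply, Module.algebraMap_end_apply, Submodule.coe_smul]
    congr 1
    induction n with
    | zero => rfl
    | succ n ih => rw [pow_succ', pow_succ', Module.End.mul_apply, Module.End.mul_apply, ← ih]; rfl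

omit [Finite F] in
theorem natDegree_dvd_finrank_ker {f : F[X]} (hirr : Irreducible f) (g : V →ₗ[F] V) :
    f.natDegree ∣ Module.finrank F (LinearMap.ker (aeval g f)) := by
  refine natDegree_dvd_of_aeval_eq_zero hirr (g := g.restrict (ker_aeval_inv g f)) ?_
  apply LinearMap.ext
  intro x
  apply Subtype.ext
  rw [aeval_restrict]
  exact x.2

omit [Finite F] in
/-- the dimension of the kernel is a positive multiple of the degree -/
theorem exists_finrank_ker {f : F[X]} (hirr : Irreducible f) {g : V →ₗ[F] V} (hdvd : f ∣ g.charpoly) :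
    ∃ k, Module.finrank F (LinearMap.ker (aeval g f)) = f.natDegree * (k + 1) := by
  obtain ⟨c, hc⟩ := natDegree_dvd_finrank_ker hirr g
  have h1 := ker_aeval_ne_bot hirr hdvd
  rcases Nat.eq_zero_or_pos c with h0 | h0
  · rw [h0, mul_zero] at hc
    exact absurd (Submodule.finrank_eq_zero.1 hc) h1
  · exact ⟨c - 1, by rw [hc, Nat.sub_add_cancel h0]⟩

/-- **The value of `kap`** at an endomorphism whose minimal polynomial is a power of `f`. -/
theorem kap_formula (B : F[X] → ℂ)
    (hB : ∀ p q : F[X], p.Monic → q.Monic → B (p * q) = B p + B q)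
    {f : F[X]} (hf : f.Monic) (hirr : Irreducible f) {g : V →ₗ[F] V} {m : ℕ} (h0 : aeval g (f ^ m) = 0)
    {k : ℕ} (hk : Module.finrank F (LinearMap.ker (aeval g f)) = f.natDegree * (k + 1)) :
    kap B g ⊤ = B f * ∏ i ∈ Finset.range k, (1 - (Nat.card F : ℂ) ^ (f.natDegree * (i + 1))) := by
  classical
  let R := LinearMap.range (aeval g f)
  have hR : R ≤ R.comap g := range_aeval_inv g f
  have hrk := R.finrank_quotient_add_finrank
  have hrk2 := LinearMap.finrank_range_add_finrank_ker (aeval g f : V →ₗ[F] V)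
  have hquot : Module.finrank F (V ⧸ R) = f.natDegree * (k + 1) := by
    rw [← hk]
    show Module.finrank F (V ⧸ R) = _
    have : Module.finrank F R = Module.finrank F (LinearMap.range (aeval g f)) := rfl
    omega
  have hpos : 0 < Module.finrank F (V ⧸ R) := by
    rw [hquot]
    exact Nat.mul_pos hirr.natDegree_pos (Nat.succ_pos k)
  have hne : R ≠ ⊤ := by
    intro h
    rw [h] at hpos
    have h1 := (⊤ : Submodule F V).finrank_quotient_add_finrank
    rw [finrank_top] at h1
    omega
  have hmax : ∀ W : Submodule F V, W ≤ W.comap g → W ⊔ R = ⊤ → W = ⊤ := by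
    intro W hW hWR
    have key : ∀ j : ℕ, W ⊔ LinearMap.range (aeval g (f ^ j)) = ⊤ := by
      intro j
      induction j with
      | zero =>
        rw [pow_zero, map_one, eq_top_iff]
        intro x _
        exact Submodule.mem_sup_right ⟨x, rfl⟩
      | succ j ihj =>
        rw [eq_top_iff]
        intro x _
        have h1 : x ∈ W ⊔ LinearMap.range (aeval g (f ^ j)) := ihj ▸ Submodule.mem_top
        obtain ⟨w, hw, _, ⟨y, rfl⟩, rfl⟩ := Submodule.mem_sup.1 h1
        have h2 : y ∈ W ⊔ R := hWR ▸ Submodule.mem_top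
        obtain ⟨w', hw', _, ⟨z, rfl⟩, rfl⟩ := Submodule.mem_sup.1 h2
        rw [map_add, ← add_assoc]
        refine Submodule.add_mem_sup (W.add_mem hw (aeval_mem hW _ hw')) ⟨z, ?_⟩
        rw [pow_succ, map_mul, Module.End.mul_apply]
    have h1 := key m
    rw [h0] at h1
    rwa [LinearMap.range_zero, sup_bot_eq] at h1
  rw [kap_top_quot B hB hR hne hmax]
  refine kap_of_aeval_eq_zero B hB hf hirr ?_ hquot
  apply LinearMap.ext
  intro x
  obtain ⟨y, rfl⟩ := R.mkQ_surjective x
  have h1 : ∀ p : F[X], aeval (R.mapQ R g hR) p (R.mkQ y) = R.mkQ (aeval g p y) := by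
    intro p
    induction p using Polynomial.induction_on' with
    | add p q hp hq => rw [map_add, map_add, LinearMap.add_apply, LinearMap.add_apply, hp, hq, map_add]
    | monomial n a =>
      rw [aeval_monomial, aeval_monomial, Module.End.mul_apply, Module.algebraMap_end_apply,
        Module.End.mul_apply, Module.algebraMap_end_apply, map_smul]
      congr 1
      induction n with
      | zero => rfl
      | succ n ih => rw [pow_succ', pow_succ', Module.End.mul_apply, ih]; rfl
  rw [h1]
  exact (mkQ_zero_iff R _).2 ⟨y, rfl⟩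

omit [Finite F] in
theorem aeval_pow_of_charpoly {g : V →ₗ[F] V} {f : F[X]} {m : ℕ} (h : g.charpoly = f ^ m) :
    aeval g (f ^ m) = 0 := by
  rw [← h]
  exact LinearMap.aeval_self_charpoly g

/-- `kap` depends only on the characteristic polynomial and the dimension of the kernels. -/
theorem kap_congr {V' : Type v'} [AddCommGroup V'] [Module F V'] [Finite V'] (B : F[X] → ℂ)
    (hB : ∀ p q : F[X], p.Monic → q.Monic → B (p * q) = B p + B q)
    {g : V →ₗ[F] V} {g' : V' →ₗ[F] V'} (hc : g'.charpoly = g.charpoly)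
    (hd : ∀ f : F[X], Irreducible f → Module.finrank F (LinearMap.ker (aeval g' f)) =
      Module.finrank F (LinearMap.ker (aeval g f))) : kap B g' ⊤ = kap B g ⊤ := by
  have hfr : Module.finrank F V' = Module.finrank F V := by
    rw [← LinearMap.charpoly_natDegree g, ← LinearMap.charpoly_natDegree g', hc]
  rcases subsingleton_or_nontrivial V with hs | hnt
  · have hs' : Subsingleton V' := by
      rw [← Module.finrank_zero_iff (R := F), hfr]
      exact Module.finrank_zero_of_subsingleton
    have h1 : (⊤ : Submodule F V) = ⊥ := Subsingleton.elim _ _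
    have h1' : (⊤ : Submodule F V') = ⊥ := Subsingleton.elim _ _
    rw [h1, h1', kap_bot B hB, kap_bot B hB]
  · have hnt' : Nontrivial V' := by
      apply Module.nontrivial_of_finrank_pos (R := F)
      rw [hfr]
      exact Module.finrank_pos
    rcases kap_eq_zero_or B hB g with ⟨f, m, hf, hirr, hm, hfm⟩ | h0
    · obtain ⟨k, hk⟩ := exists_finrank_ker hirr (g := g) (by rw [hfm]; exact dvd_pow_self f hm.ne')
      rw [kap_formula B hB hf hirr (aeval_pow_of_charpoly hfm) hk,
        kap_formula B hB hf hirr (aeval_pow_of_charpoly (hc.trans hfm)) ((hd f hirr).trans hk)]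
    · rcases kap_eq_zero_or B hB g' with ⟨f, m, hf, hirr, hm, hfm⟩ | h0'
      · obtain ⟨k, hk⟩ := exists_finrank_ker hirr (g := g') (by rw [hfm]; exact dvd_pow_self f hm.ne')
        rw [kap_formula B hB hf hirr (aeval_pow_of_charpoly hfm) hk,
          kap_formula B hB hf hirr (aeval_pow_of_charpoly (hc.symm.trans hfm)) ((hd f hirr).symm.trans hk)]
      · rw [h0, h0']

/-- `kap` depends only on the values of `B` at the irreducible polynomials whose degree divides the
dimension. -/
theorem kap_congr_B {B B' : F[X] → ℂ} (hB : ∀ p q : F[X], p.Monic → q.Monic → B (p * q) = B p + B q)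
    (hB' : ∀ p q : F[X], p.Monic → q.Monic → B' (p * q) = B' p + B' q)
    (h : ∀ f : F[X], f.Monic → Irreducible f → f.natDegree ∣ Module.finrank F V → B f = B' f)
    (g : V →ₗ[F] V) : kap B g ⊤ = kap B' g ⊤ := by
  rcases subsingleton_or_nontrivial V with hs | hnt
  · have h1 : (⊤ : Submodule F V) = ⊥ := Subsingleton.elim _ _
    rw [h1, kap_bot B hB, kap_bot B' hB']
  · have key : ∀ f m, f.Monic → Irreducible f → 0 < m → g.charpoly = f ^ m → kap B g ⊤ = kap B' g ⊤ := by
      intro f m hf hirr hm hfm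
      obtain ⟨k, hk⟩ := exists_finrank_ker hirr (g := g) (by rw [hfm]; exact dvd_pow_self f hm.ne')
      rw [kap_formula B hB hf hirr (aeval_pow_of_charpoly hfm) hk,
        kap_formula B' hB' hf hirr (aeval_pow_of_charpoly hfm) hk, h f hf hirr]
      rw [← LinearMap.charpoly_natDegree g, hfm, natDegree_pow]
      exact dvd_mul_left _ _
    rcases kap_eq_zero_or B hB g with ⟨f, m, hf, hirr, hm, hfm⟩ | h0
    · exact key f m hf hirr hm hfm
    · rcases kap_eq_zero_or B' hB' g with ⟨f, m, hf, hirr, hm, hfm⟩ | h0'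
      · exact key f m hf hirr hm hfm
      · rw [h0, h0']

end

end Cfsg.Agent.H139.Cusp
end

-- part: H139/Cusp/LiftPow
section
/-!
# The Brauer lift for an arbitrary multiplicative character
-/

set_option autoImplicit false

open Polynomial Cfsg

namespace Cfsg.Agent.H139.Cusp

universe u v w

section

variable {K : Type w} [Field K]

theorem charpoly_of_smul {V : Type v} [AddCommGroup V] [Module K V] [FiniteDimensional K V]
    {e : V →ₗ[K] V} {c : K} (hV : Module.finrank K V = 1) (he : ∀ v, e v = c • v) :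
    e.charpoly = X - C c := by
  have hmon := LinearMap.charpoly_monic e
  have hdeg : e.charpoly.natDegree = 1 := by rw [LinearMap.charpoly_natDegree, hV]
  have hnt : Nontrivial V := Module.nontrivial_of_finrank_pos (R := K) (by omega)
  obtain ⟨v, hv⟩ := exists_ne (0 : V)
  have h1 : Module.End.HasEigenvalue e c := by
    apply Module.End.hasEigenvalue_of_hasEigenvector (x := v)
    exact ⟨Module.End.mem_eigenspace_iff.2 (he v), hv⟩
  rw [Module.End.hasEigenvalue_iff_isRoot_charpoly, IsRoot.def, hmon.eq_X_add_C hdeg] at h1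
  rw [hmon.eq_X_add_C hdeg]
  rw [eval_add, eval_X, eval_C] at h1
  rw [eq_neg_of_add_eq_zero_right h1, C_neg, sub_eq_add_neg]

/-- the lift for a power of a multiplicative map is the lift of the power -/
theorem bl_pow (θ : K →*₀ ℂ) {a : ℕ} (ha : a ≠ 0) (n : ℕ) :
    ∀ (V : Type v) [AddCommGroup V] [Module K V] [FiniteDimensional K V], Module.finrank K V = n →
      ∀ e : V →ₗ[K] V, e.charpoly.Splits → bl (powTheta θ a ha) e = bl θ (e ^ a) := by
  induction n with
  | zero =>
    intro V _ _ _ hV e _
    have h1 : ∀ e : V →ₗ[K] V, e.charpoly = 1 := fun e =>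
      eq_one_of_monic_natDegree_zero (LinearMap.charpoly_monic _) (by rw [LinearMap.charpoly_natDegree, hV])
    rw [bl, bl, h1, h1, roots_one]
    rfl
  | succ n ih =>
    intro V _ _ _ hV e hs
    have hnt : Nontrivial V := Module.nontrivial_of_finrank_pos (R := K) (by omega)
    have hd : e.charpoly.degree ≠ 0 := by
      rw [degree_eq_natDegree (LinearMap.charpoly_monic _).ne_zero, LinearMap.charpoly_natDegree, hV]
      exact_mod_cast Nat.succ_ne_zero n
    obtain ⟨c, hc⟩ := hs.exists_eval_eq_zero hd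
    have hc' : Module.End.HasEigenvalue e c := (Module.End.hasEigenvalue_iff_isRoot_charpoly _ _).2 hc
    obtain ⟨v, hv⟩ := hc'.exists_hasEigenvector
    have hev : e v = c • v := hv.apply_eq_smul
    let W : Submodule K V := Submodule.span K {v}
    have hmem : ∀ x ∈ W, e x = c • x := by
      intro x hx
      obtain ⟨r, rfl⟩ := Submodule.mem_span_singleton.1 hx
      rw [map_smul, hev, smul_comm]
    have hW : W ≤ W.comap e := by
      intro x hx
      rw [Submodule.mem_comap, hmem x hx]
      exact W.smul_mem _ hx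
    have hWa : W ≤ W.comap (e ^ a) := W.le_comap_pow_of_le_comap hW a
    have hW1 : Module.finrank K W = 1 := finrank_span_singleton hv.2
    have hq : Module.finrank K (V ⧸ W) = n := by
      have h1 := W.finrank_quotient_add_finrank
      omega
    have hcp : e.charpoly = (e.restrict hW).charpoly * (W.mapQ W e hW).charpoly := charpoly_eq_mul W e hW
    have hsq : (W.mapQ W e hW).charpoly.Splits :=
      hs.of_dvd (LinearMap.charpoly_monic _).ne_zero (by rw [hcp]; exact dvd_mul_left _ _)
    rw [bl_sub_quot (powTheta θ a ha) hW, bl_sub_quot θ hWa, W.mapQ_pow hW a hWa,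
      ih _ hq _ hsq]
    congr 1
    have h1 : (e.restrict hW).charpoly = X - C c :=
      charpoly_of_smul hW1 fun x => Subtype.ext (hmem x x.2)
    have hmema : ∀ (j : ℕ) (x : V), x ∈ W → (e ^ j) x = c ^ j • x := by
      intro j x hx
      induction j with
      | zero => rw [pow_zero, pow_zero, one_smul]; rfl
      | succ j ihj =>
        rw [pow_succ', Module.End.mul_apply, ihj, map_smul, hmem x hx, smul_smul, ← pow_succ]
    have h2 : ((e ^ a).restrict hWa).charpoly = X - C (c ^ a) :=
      charpoly_of_smul hW1 fun x => Subtype.ext (hmema a x x.2)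
    rw [bl, bl, h1, h2, roots_X_sub_C, roots_X_sub_C, Multiset.map_singleton, Multiset.map_singleton,
      Multiset.sum_singleton, Multiset.sum_singleton, powTheta_apply, map_pow]

end

section

variable {F : Type u} [Field F] (K : Type w) [Field K] [Algebra F K] (θ : K →*₀ ℂ)

open TensorProduct in
theorem lb_eq_bl {V : Type v} [AddCommGroup V] [Module F V] [Module.Finite F V] (g : V →ₗ[F] V) :
    lb K θ g.charpoly = bl θ (g.baseChange K : K ⊗[F] V →ₗ[K] K ⊗[F] V) := by
  rw [bl, LinearMap.charpoly_baseChange]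
  rfl

theorem lb_pow_eq {V : Type v} [AddCommGroup V] [Module F V] [Module.Finite F V] (g : V →ₗ[F] V)
    (hs : (g.charpoly.map (algebraMap F K)).Splits) {a : ℕ} (ha : a ≠ 0) :
    lb K (powTheta θ a ha) g.charpoly = lb K θ (g ^ a).charpoly := by
  rw [lb_eq_bl, lb_eq_bl, bl_pow θ ha _ _ rfl _ (by rwa [LinearMap.charpoly_baseChange])]
  congr 1
  exact (map_pow (Module.End.baseChangeHom F K V) g a).symm

theorem lb_generalized_pow (hθ : Function.Injective θ) {n : ℕ}
    (hK : ∀ h : F[X], h.Monic → h.natDegree ≤ n → (h.map (algebraMap F K)).Splits) {a : ℕ} (ha : a ≠ 0)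
    (V : Type v) [AddCommGroup V] [Module F V] [Finite V] (hV : Module.finrank F V ≤ n) :
    IsGeneralizedCharacter (V →ₗ[F] V)ˣ
      (fun g => lb K (powTheta θ a ha) (LinearMap.charpoly (g : V →ₗ[F] V))) := by
  have : Finite (V →ₗ[F] V) := DFunLike.finite _
  have : Finite (V →ₗ[F] V)ˣ := inferInstance
  refine isGeneralizedCharacter_congr (isGeneralizedCharacter_pow (lb_generalized K θ hθ hK V hV) a)
    fun g => ?_
  rw [lb_pow_eq K θ (g : V →ₗ[F] V) (hK _ (LinearMap.charpoly_monic _)
    (by rw [LinearMap.charpoly_natDegree]; exact hV)) ha, Units.val_pow_eq_pow_val]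

theorem kap_generalized_pow (hθ : Function.Injective θ) {n : ℕ}
    (hK : ∀ h : F[X], h.Monic → h.natDegree ≤ n → (h.map (algebraMap F K)).Splits) {a : ℕ} (ha : a ≠ 0)
    (d : ℕ) (hd : d ≤ n) (V : Type v) [AddCommGroup V] [Module F V] [Finite V] (hV : Module.finrank F V = d) :
    IsGeneralizedCharacter (V →ₗ[F] V)ˣ (fun g => kap (lb K (powTheta θ a ha)) (g : V →ₗ[F] V) ⊤) :=
  kap_generalized_of _ (fun V _ _ _ hV => lb_generalized_pow K θ hθ hK ha V hV) d hd V hV

end

end Cfsg.Agent.H139.Cusp
end

-- part: H139/Cusp/Theta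
section
/-!
# The cuspidal class functions of general linear groups

For a finite field `F`, a finite extension `L` of degree `n`, a multiplicative map `θ : L →*₀ ℂ` and
an `F`-space `V` of dimension `n`, the class function `cusp L θ` on the endomorphisms of `V`.
-/

set_option autoImplicit false

open Polynomial Cfsg
open scoped ComplexConjugate

namespace Cfsg.Agent.H139.Cusp

universe u v v' w w'

attribute [local instance] fintypeHom fintypeSub finite_quot

/-! ### a large extension -/

section ext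

theorem splits_X_pow_sub_X (F : Type u) [Field F] [Finite F] (L : Type w) [Field L] [Finite L] [Algebra F L] :
    ((X ^ (Nat.card F ^ Module.finrank F L) - X : F[X]).map (algebraMap F L)).Splits := by
  have : Fintype L := Fintype.ofFinite L
  have h1 := (FiniteField.isSplittingField_sub L F).splits
  have h2 : Fintype.card L = Nat.card F ^ Module.finrank F L := by
    rw [← Nat.card_eq_fintype_card, Module.natCard_eq_pow_finrank (K := F)]
  rwa [h2] at h1

theorem splits_of_natDegree_dvd {F : Type u} [Field F] [Finite F] {L : Type w} [Field L] [Finite L]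
    [Algebra F L] {f : F[X]} (hirr : Irreducible f) (hd : f.natDegree ∣ Module.finrank F L) :
    (f.map (algebraMap F L)).Splits := by
  have h1 := splits_X_pow_sub_X F L
  have hn : Module.finrank F L ≠ 0 := (Module.finrank_pos (R := F) (M := L)).ne'
  have h2 : f ∣ X ^ (Nat.card F ^ Module.finrank F L) - X :=
    hirr.natDegree_dvd_iff_dvd_X_pow_card_pow_sub_X.1 hd
  refine h1.of_dvd ?_ (Polynomial.map_dvd _ h2)
  exact (Polynomial.map_ne_zero_iff (algebraMap F L).injective).2
    (FiniteField.X_pow_card_pow_sub_X_ne_zero _ hn Finite.one_lt_card)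

theorem lb_ext {F : Type u} [Field F] [Finite F] {L : Type w} [Field L] [Finite L]
    [Algebra F L] {K : Type w'} [Field K] [Algebra F K] (j : L →ₐ[F] K) {θ : L →*₀ ℂ} {θ' : K →*₀ ℂ}
    (h : ∀ x, θ' (j x) = θ x) {f : F[X]} (hirr : Irreducible f) (hd : f.natDegree ∣ Module.finrank F L) :
    lb L θ f = lb K θ' f := by
  have h1 := splits_of_natDegree_dvd (L := L) hirr hd
  have h2 : f.map (algebraMap F K) = (f.map (algebraMap F L)).map (j : L →+* K) := by
    rw [Polynomial.map_map]
    congr 1
    ext x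
    exact (j.commutes x).symm
  rw [lb, lb, h2, h1.roots_map, Multiset.map_map]
  congr 1
  exact Multiset.map_congr rfl fun x _ => (h x).symm

theorem exists_extension (F : Type u) [Field F] [Finite F] (L : Type w) [Field L] [Finite L]
    [Algebra F L] : ∃ (K : Type) (_ : Field K) (_ : Finite K) (_ : Algebra F K) (j : L →ₐ[F] K)
    (θ₀ : K →*₀ ℂ), Function.Injective θ₀ ∧
      (∀ h : F[X], h.Monic → h.natDegree ≤ Module.finrank F L → (h.map (algebraMap F K)).Splits) ∧
      Nat.card F ^ Module.finrank F L - 1 ∣ Nat.card Kˣ ∧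
      ∀ θ : L →*₀ ℂ, ∃ a, a ≠ 0 ∧ ∀ x : L, θ x = θ₀ (j x) ^ a := by
  obtain ⟨p, hp⟩ := CharP.exists F
  have hpf : Fact p.Prime := ⟨CharP.char_is_prime F p⟩
  set n := Module.finrank F L with hn
  have hn0 : 0 < n := Module.finrank_pos
  have hN0 : n.factorial ≠ 0 := Nat.factorial_ne_zero n
  have hNz : NeZero n.factorial := ⟨hN0⟩
  let K := FiniteField.Extension F p n.factorial
  have hKs : ((X ^ (Nat.card F ^ n.factorial) - X : F[X]).map (algebraMap F K)).Splits :=
    IsSplittingField.splits K _
  have hcard : Nat.card Kˣ = Nat.card F ^ n.factorial - 1 := by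
    rw [Nat.card_units, FiniteField.natCard_extension]
  have hfr : Module.finrank F L ∣ Module.finrank F K := by
    rw [FiniteField.finrank_extension]
    exact Nat.dvd_factorial hn0 le_rfl
  obtain ⟨j⟩ := FiniteField.nonempty_algHom_of_finrank_dvd hfr
  obtain ⟨θ₀, hθ⟩ := exists_theta K
  refine ⟨K, inferInstance, inferInstance, inferInstance, j, θ₀, hθ, ?_, ?_, ?_⟩
  · exact fun h hm hd => splits_of_le (fun d hd0 hdn => Nat.dvd_factorial hd0 hdn) hN0 hKs h.natDegree hd h hm rfl
  · rw [hcard]
    exact Nat.pow_sub_one_dvd_pow_sub_one _ (Nat.dvd_factorial hn0 le_rfl)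
  · intro θ
    obtain ⟨γ, hγ⟩ := IsCyclic.exists_generator (α := Lˣ)
    let φ : Lˣ →* ℂ := (θ₀ : K →* ℂ).comp ((j : L →* K).comp (Units.coeHom L))
    have hφ : Function.Injective φ := fun x y hxy => Units.ext (j.injective (hθ hxy))
    have hM : 0 < orderOf γ := orderOf_pos γ
    have hnz : NeZero (orderOf γ) := ⟨hM.ne'⟩
    have hprim : IsPrimitiveRoot (θ₀ (j γ)) (orderOf γ) := by
      have h1 : orderOf (φ γ) = orderOf γ := orderOf_injective φ hφ γ
      rw [← h1]
      exact IsPrimitiveRoot.orderOf _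
    have h2 : θ γ ^ orderOf γ = 1 := by
      rw [← map_pow, ← Units.val_pow_eq_pow_val, pow_orderOf_eq_one, Units.val_one, map_one]
    obtain ⟨i, -, hi⟩ := hprim.eq_pow_of_pow_eq_one h2
    refine ⟨i + orderOf γ, by omega, fun x => ?_⟩
    by_cases hx : x = 0
    · rw [hx, map_zero, map_zero, map_zero, zero_pow (by omega)]
    · have h3 := hγ (Units.mk0 x hx)
      rw [← mem_powers_iff_mem_zpowers] at h3
      obtain ⟨k, hk⟩ := h3
      have hk' : x = (γ : L) ^ k := by
        have := congrArg Units.val hk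
        exact this.symm
      rw [hk', map_pow, map_pow, map_pow, ← hi, pow_add, ← pow_mul, ← pow_mul, ← pow_mul,
        mul_comm k (orderOf γ), pow_mul _ (orderOf γ) k, hprim.pow_eq_one, one_pow, mul_one, mul_comm i k]

end ext

/-! ### the class functions -/

section basic

variable {F : Type u} [Field F] [Finite F] (L : Type w) [Field L] [Algebra F L] (θ : L →*₀ ℂ)
variable {V : Type v} [AddCommGroup V] [Module F V] [Finite V]
variable {V' : Type v'} [AddCommGroup V'] [Module F V'] [Finite V']

/-- The cuspidal class function attached to `θ`. -/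
noncomputable def cusp (g : V →ₗ[F] V) : ℂ :=
  (-1) ^ (Module.finrank F V - 1) * kap (lb L θ) g ⊤

omit [Finite F] in
theorem cusp_conj (x : V ≃ₗ[F] V') {g : V →ₗ[F] V} {g' : V' →ₗ[F] V'} (h : ∀ v, g' (x v) = x (g v)) :
    cusp L θ g' = cusp L θ g := by
  rw [cusp, cusp, x.finrank_eq]
  congr 1
  have h1 := kap_map (lb L θ) (x : V →ₗ[F] V') x.injective h ⊤
  rw [← h1, Submodule.map_top, LinearEquiv.range]

theorem cusp_congr {g : V →ₗ[F] V} {g' : V' →ₗ[F] V'} (hc : g'.charpoly = g.charpoly)
    (hd : ∀ f : F[X], Irreducible f → Module.finrank F (LinearMap.ker (aeval g' f)) =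
      Module.finrank F (LinearMap.ker (aeval g f))) : cusp L θ g' = cusp L θ g := by
  have hfr : Module.finrank F V' = Module.finrank F V := by
    rw [← LinearMap.charpoly_natDegree g, ← LinearMap.charpoly_natDegree g', hc]
  rw [cusp, cusp, hfr, kap_congr (lb L θ) (lb_mul L θ) hc hd]

omit [Finite F] in
/-- **Cuspidality**: the sum over the translates by `Hom(V/N, N)` vanishes. -/
theorem cusp_vanish {N : Submodule F V} {g : V →ₗ[F] V} (hg : N ≤ N.comap g) (hN0 : N ≠ ⊥) (hN1 : N ≠ ⊤) :
    ∑ t : (V ⧸ N) →ₗ[F] N, cusp L θ (g + phi N t) = 0 := by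
  simp only [cusp]
  rw [← Finset.mul_sum, kap_vanish (lb L θ) (lb_mul L θ) _ V rfl N g hg hN0 hN1, mul_zero]

omit [Finite F] in
theorem cusp_eq_zero_or [Nontrivial V] (g : V →ₗ[F] V) :
    (∃ (f : F[X]) (m : ℕ), f.Monic ∧ Irreducible f ∧ 0 < m ∧ g.charpoly = f ^ m) ∨ cusp L θ g = 0 := by
  rcases kap_eq_zero_or (lb L θ) (lb_mul L θ) g with h | h
  · exact Or.inl h
  · right
    rw [cusp, h, mul_zero]

/-- **The value** at an endomorphism with characteristic polynomial `f ^ m`. -/
theorem cusp_formula {f : F[X]} (hf : f.Monic) (hirr : Irreducible f) {g : V →ₗ[F] V} {m : ℕ}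
    (hfm : g.charpoly = f ^ m)
    {k : ℕ} (hk : Module.finrank F (LinearMap.ker (aeval g f)) = f.natDegree * (k + 1)) :
    cusp L θ g = (-1) ^ (Module.finrank F V - 1) *
      (lb L θ f * ∏ i ∈ Finset.range k, (1 - (Nat.card F : ℂ) ^ (f.natDegree * (i + 1)))) := by
  rw [cusp, kap_formula (lb L θ) (lb_mul L θ) hf hirr (aeval_pow_of_charpoly hfm) hk]

/-- the value at an endomorphism with irreducible characteristic polynomial -/
theorem cusp_of_irreducible {g : V →ₗ[F] V} (hirr : Irreducible g.charpoly) :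
    cusp L θ g = (-1) ^ (Module.finrank F V - 1) * lb L θ g.charpoly := by
  obtain ⟨k, hk⟩ := exists_finrank_ker hirr (g := g) dvd_rfl
  have h1 : LinearMap.ker (aeval g g.charpoly) = ⊤ := by
    rw [LinearMap.aeval_self_charpoly, LinearMap.ker_zero]
  have hk0 : k = 0 := by
    rw [h1, finrank_top, LinearMap.charpoly_natDegree] at hk
    have h2 : 0 < Module.finrank F V := by
      rw [← LinearMap.charpoly_natDegree g]
      exact hirr.natDegree_pos
    have h3 : Module.finrank F V * 1 = Module.finrank F V * (k + 1) := by rw [mul_one]; exact hk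
    have h4 := Nat.eq_of_mul_eq_mul_left h2 h3
    omega
  subst hk0
  rw [cusp_formula L θ (LinearMap.charpoly_monic g) hirr (m := 1) (pow_one _).symm hk]
  simp

/-- the degree -/
theorem cusp_one (hV : 0 < Module.finrank F V) :
    cusp L θ (1 : V →ₗ[F] V) = (degP (Nat.card F) (Module.finrank F V) : ℂ) := by
  have hq : 2 ≤ Nat.card F := Finite.one_lt_card
  have h1 := kap_one (F := F) (lb L θ) (lb_mul L _) (Module.finrank F V - 1) V (by omega)
  rw [cusp, h1, lb_X_sub_one, one_mul, degP, Nat.cast_prod]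
  have h3 : ((-1 : ℂ)) ^ (Module.finrank F V - 1) = ∏ _j ∈ Finset.range (Module.finrank F V - 1), (-1 : ℂ) := by
    rw [Finset.prod_const, Finset.card_range]
  rw [h3, ← Finset.prod_mul_distrib]
  refine Finset.prod_congr rfl fun i _ => ?_
  rw [Nat.cast_sub (Nat.one_le_pow _ _ (by omega))]
  push_cast
  ring

theorem degP_eq_Ico (q n : ℕ) : degP q n = ∏ i ∈ Finset.Ico 1 n, (q ^ i - 1) := by
  rw [Finset.prod_Ico_eq_prod_range, degP]
  exact Finset.prod_congr rfl fun i _ => by rw [add_comm 1 i]

/-- complex conjugate of a multiplicative map -/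
noncomputable def conjTheta {L : Type w} [Field L] (θ : L →*₀ ℂ) : L →*₀ ℂ where
  toFun x := conj (θ x)
  map_zero' := by rw [map_zero, map_zero]
  map_one' := by rw [map_one, map_one]
  map_mul' x y := by rw [map_mul, map_mul]

theorem conjTheta_apply {L : Type w} [Field L] (θ : L →*₀ ℂ) (x : L) : conjTheta θ x = conj (θ x) := rfl

/-- the conjugate of a multiplicative map on a finite field is the inverse -/
theorem conj_theta_eq {L : Type w} [Field L] [Finite L] (θ : L →*₀ ℂ) (x : L) : conj (θ x) = θ x⁻¹ := by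
  by_cases hx : x = 0
  · rw [hx, inv_zero, map_zero, map_zero]
  · have h1 : θ x ^ Nat.card Lˣ = 1 := by
      rw [← map_pow]
      have h2 : (Units.mk0 x hx) ^ Nat.card Lˣ = 1 := pow_card_eq_one'
      have h3 := congrArg Units.val h2
      rw [Units.val_pow_eq_pow_val, Units.val_mk0, Units.val_one] at h3
      rw [h3, map_one]
    have h2 : ‖θ x‖ = 1 := by
      have h3 : ‖θ x‖ ^ Nat.card Lˣ = 1 := by rw [← norm_pow, h1, norm_one]
      exact (pow_eq_one_iff_of_nonneg (norm_nonneg _) Nat.card_pos.ne').1 h3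
    rw [← Complex.inv_eq_conj h2, map_inv₀]

omit [Finite F] in
theorem lb_conj (h : F[X]) : conj (lb L θ h) = lb L (conjTheta θ) h := by
  rw [lb, map_multiset_sum, Multiset.map_map, lb]
  rfl

omit [Finite F] in
theorem cusp_star (g : V →ₗ[F] V) : conj (cusp L θ g) = cusp L (conjTheta θ) g := by
  classical
  rw [cusp, cusp, map_mul, map_pow, map_neg, map_one]
  congr 1
  refine kap_unique _ (k := fun W => conj (kap (lb L θ) g W)) ?_ ?_ ⊤
  · intro W hW
    rw [kap_of_not _ hW, map_zero]
  · intro W hW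
    rw [← map_sum, kap_sum _ hW, lb_conj]

end basic

/-! ### independence of the extension, generalized characters -/

section gen

variable {F : Type u} [Field F] [Finite F] {L : Type w} [Field L] [Finite L] [Algebra F L]
variable {V : Type v} [AddCommGroup V] [Module F V] [Finite V]

theorem kap_ext {K : Type w'} [Field K] [Algebra F K] (j : L →ₐ[F] K) {θ : L →*₀ ℂ} {θ' : K →*₀ ℂ}
    (h : ∀ x, θ' (j x) = θ x) (hV : Module.finrank F V ∣ Module.finrank F L) (g : V →ₗ[F] V) :
    kap (lb L θ) g ⊤ = kap (lb K θ') g ⊤ :=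
  kap_congr_B (lb_mul L θ) (lb_mul K θ') (fun _ _ hirr hd => lb_ext j h hirr (hd.trans hV)) g

/-- **The cuspidal class functions are generalized characters.** -/
theorem cusp_generalized (θ : L →*₀ ℂ) (hV : Module.finrank F V = Module.finrank F L) :
    IsGeneralizedCharacter (V →ₗ[F] V)ˣ (fun g => cusp L θ (g : V →ₗ[F] V)) := by
  obtain ⟨K, _, _, _, j, θ₀, hθ₀, hK, -, hex⟩ := exists_extension F L
  obtain ⟨a, ha, hθ⟩ := hex θ
  have h1 := kap_generalized_pow K θ₀ hθ₀ hK ha _ le_rfl V hV
  have h2 : ∀ (m : ℕ) {φ : (V →ₗ[F] V)ˣ → ℂ}, IsGeneralizedCharacter (V →ₗ[F] V)ˣ φ →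
      IsGeneralizedCharacter (V →ₗ[F] V)ˣ (fun g => (-1) ^ m * φ g) := by
    intro m φ hφ
    rcases neg_one_pow_eq_or ℂ m with hs | hs
    · refine isGeneralizedCharacter_congr hφ fun g => ?_
      rw [hs, one_mul]
    · refine isGeneralizedCharacter_congr (Characters.Brauer.isGeneralizedCharacter_neg hφ) fun g => ?_
      rw [hs, neg_one_mul]
      rfl
  refine isGeneralizedCharacter_congr (h2 (Module.finrank F V - 1) h1) fun g => ?_
  rw [cusp, kap_ext j (θ' := powTheta θ₀ a ha) (fun x => (hθ x).symm) (dvd_of_eq hV)]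

/-- the values at inverses -/
theorem cusp_inv (θ : L →*₀ ℂ) (hV : Module.finrank F V = Module.finrank F L) (g : (V →ₗ[F] V)ˣ) :
    cusp L θ ((g⁻¹ : (V →ₗ[F] V)ˣ) : V →ₗ[F] V) = conj (cusp L θ (g : V →ₗ[F] V)) := by
  have : Finite (V →ₗ[F] V) := DFunLike.finite _
  have : Fintype (V →ₗ[F] V)ˣ := Fintype.ofFinite _
  obtain ⟨α, β, hα, hβ, h⟩ := cusp_generalized (V := V) θ hV
  have h1 : ∀ g : (V →ₗ[F] V)ˣ, cusp L θ (g : V →ₗ[F] V) = α g - β g := fun g => congrFun h g
  rw [h1, h1, Characters.Core.isCharacter_apply_inv hα, Characters.Core.isCharacter_apply_inv hβ, map_sub]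

/-! ### scalars -/

omit [Finite F] in
theorem kap_smul_of (B : F[X] → ℂ) (z : ℂ) {c : F} (hc : c ≠ 0) (g : V →ₗ[F] V)
    (h : ∀ (W : Submodule F V) (hW : W ≤ W.comap g),
      B ((c • g.restrict hW)).charpoly = z * B (g.restrict hW).charpoly) (W : Submodule F V) :
    kap B (c • g) W = z * kap B g W := by
  classical
  symm
  have hst : ∀ W : Submodule F V, W ≤ W.comap (c • g) ↔ W ≤ W.comap g := by
    intro W
    constructor
    · intro h x hx
      have h1 := W.smul_mem c⁻¹ (h hx)
      rwa [LinearMap.smul_apply, inv_smul_smul₀ hc] at h1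
    · intro h x hx
      rw [Submodule.mem_comap, LinearMap.smul_apply]
      exact W.smul_mem c (h hx)
  refine kap_unique B (k := fun W => z * kap B g W) ?_ ?_ W
  · intro W hW
    rw [kap_of_not B (fun h => hW ((hst W).2 h)), mul_zero]
  · intro W hW
    have hW' := (hst W).1 hW
    rw [← Finset.mul_sum, kap_sum B hW', ← h W hW']
    rfl

theorem cusp_smul (θ : L →*₀ ℂ) (hV : Module.finrank F V = Module.finrank F L) {c : F} (hc : c ≠ 0)
    (g : V →ₗ[F] V) : cusp L θ (c • g) = θ (algebraMap F L c) * cusp L θ g := by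
  obtain ⟨K, _, _, _, j, θ₀, hθ₀, hK, -, hex⟩ := exists_extension F L
  obtain ⟨a, ha, hθ⟩ := hex θ
  have h0 : algebraMap F K c ≠ 0 := (map_ne_zero_iff _ (algebraMap F K).injective).2 hc
  rw [cusp, cusp, kap_ext j (θ' := powTheta θ₀ a ha) (fun x => (hθ x).symm) (dvd_of_eq hV),
    kap_ext j (θ' := powTheta θ₀ a ha) (fun x => (hθ x).symm) (dvd_of_eq hV),
    kap_smul_of _ (θ (algebraMap F L c)) hc]
  · ring
  · intro W hW
    rw [lb_eq_bl, lb_eq_bl, LinearMap.baseChange_smul, ← algebraMap_smul K c, bl_smul _ _ h0, hθ,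
      AlgHom.commutes]
    · rfl
    · rw [LinearMap.charpoly_baseChange]
      refine hK _ (LinearMap.charpoly_monic _) ?_
      rw [LinearMap.charpoly_natDegree, ← hV]
      exact Submodule.finrank_le W

/-! ### the inner products -/

theorem card_pairs_eq {q n a b : ℕ} (hq : 1 ≤ q) (hn : 0 < n) :
    ((Finset.range n ×ˢ Finset.range n).filter fun p =>
      a * q ^ p.1 ≡ b * q ^ p.2 [MOD (q ^ n - 1)]).card =
    n * ((Finset.range n).filter fun k => b ≡ a * q ^ k [MOD (q ^ n - 1)]).card := by
  have hqn : (q : ZMod (q ^ n - 1)) ^ n = 1 := by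
    have h1 : 1 ≤ q ^ n := Nat.one_le_pow _ _ hq
    have h2 : ((q ^ n - 1 : ℕ) : ZMod (q ^ n - 1)) = 0 := ZMod.natCast_self _
    rw [Nat.cast_sub h1] at h2
    push_cast at h2
    exact sub_eq_zero.1 h2
  have hiff : ∀ i j, j < n → (a * q ^ i ≡ b * q ^ j [MOD (q ^ n - 1)] ↔
      b ≡ a * q ^ ((i + (n - j)) % n) [MOD (q ^ n - 1)]) := by
    intro i j hj
    rw [← ZMod.natCast_eq_natCast_iff, ← ZMod.natCast_eq_natCast_iff]
    push_cast
    rw [← pow_eq_pow_mod _ hqn, pow_add, ← mul_assoc]
    constructor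
    · intro h
      rw [h, mul_assoc, ← pow_add, Nat.add_sub_cancel' hj.le, hqn, mul_one]
    · intro h
      rw [h, mul_assoc, ← pow_add, Nat.sub_add_cancel hj.le, hqn, mul_one]
  rw [Finset.card_filter, Finset.sum_product_right]
  have h3 : ∀ j ∈ Finset.range n, (∑ i ∈ Finset.range n,
      if a * q ^ (i, j).1 ≡ b * q ^ (i, j).2 [MOD (q ^ n - 1)] then 1 else 0) =
      ((Finset.range n).filter fun k => b ≡ a * q ^ k [MOD (q ^ n - 1)]).card := by
    intro j hj
    have hj' := Finset.mem_range.1 hj
    rw [← Finset.card_filter]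
    refine Finset.card_nbij' (fun i => (i + (n - j)) % n) (fun k => (k + j) % n) ?_ ?_ ?_ ?_
    · intro i hi
      rw [Finset.mem_coe, Finset.mem_filter] at hi ⊢
      exact ⟨Finset.mem_range.2 (Nat.mod_lt _ hn), (hiff i j hj').1 hi.2⟩
    · intro k hk
      rw [Finset.mem_coe, Finset.mem_filter] at hk ⊢
      have hk' := Finset.mem_range.1 hk.1
      refine ⟨Finset.mem_range.2 (Nat.mod_lt _ hn), (hiff _ j hj').2 ?_⟩
      have h4 : ((k + j) % n + (n - j)) % n = k := by
        rw [Nat.mod_add_mod, show k + j + (n - j) = k + n by omega, Nat.add_mod_right,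
          Nat.mod_eq_of_lt hk']
      show b ≡ a * q ^ (((k + j) % n + (n - j)) % n) [MOD (q ^ n - 1)]
      rw [h4]
      exact hk.2
    · intro i hi
      have hi' := Finset.mem_range.1 (Finset.mem_filter.1 hi).1
      show ((i + (n - j)) % n + j) % n = i
      rw [Nat.mod_add_mod, show i + (n - j) + j = i + n by omega, Nat.add_mod_right,
        Nat.mod_eq_of_lt hi']
    · intro k hk
      have hk' := Finset.mem_range.1 (Finset.mem_filter.1 hk).1
      show ((k + j) % n + (n - j)) % n = k
      rw [Nat.mod_add_mod, show k + j + (n - j) = k + n by omega, Nat.add_mod_right,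
        Nat.mod_eq_of_lt hk']
  rw [Finset.sum_congr rfl h3, Finset.sum_const, Finset.card_range, smul_eq_mul]

open Classical in
/-- **Inner products**: the number of powers of the Frobenius that take `θ` to `θ'`. -/
theorem cusp_inner [Fintype (V →ₗ[F] V)ˣ] (θ θ' : L →*₀ ℂ) (hV : Module.finrank F V = Module.finrank F L) :
    classInner (fun g : (V →ₗ[F] V)ˣ => cusp L θ (g : V →ₗ[F] V))
      (fun g : (V →ₗ[F] V)ˣ => cusp L θ' (g : V →ₗ[F] V)) =
    (((Finset.range (Module.finrank F L)).filter fun i =>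
      ∀ x : L, θ' x = θ (x ^ Nat.card F ^ i)).card : ℂ) := by
  obtain ⟨K, _, _, _, j, θ₀, hθ₀, hK, hdvd, hex⟩ := exists_extension F L
  obtain ⟨a, ha, hθ⟩ := hex θ
  obtain ⟨b, hb, hθ'⟩ := hex θ'
  set n := Module.finrank F L with hn
  have hn0 : 0 < n := Module.finrank_pos
  have hq1 : 1 ≤ Nat.card F := Nat.card_pos
  have h1 := inner_kap (V := V) hV hn0 hK hdvd hθ₀ ha hb
  rw [card_pairs_eq hq1 hn0, Nat.cast_mul, mul_div_cancel_left₀ _ (Nat.cast_ne_zero.2 hn0.ne')] at h1
  have h2 : ((Finset.range n).filter fun k => b ≡ a * Nat.card F ^ k [MOD (Nat.card F ^ n - 1)]) =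
      ((Finset.range n).filter fun i => ∀ x : L, θ' x = θ (x ^ Nat.card F ^ i)) := by
    refine Finset.filter_congr fun k _ => ?_
    have hcardL : Nat.card Lˣ = Nat.card F ^ n - 1 := by
      rw [Nat.card_units, Module.natCard_eq_pow_finrank (K := F)]
    constructor
    · intro h x
      by_cases hx : x = 0
      · rw [hx, zero_pow (pow_pos Nat.card_pos _).ne', map_zero, map_zero]
      · rw [hθ, hθ', map_pow, map_pow, ← pow_mul, mul_comm]
        have h3 : (Units.mk0 x hx) ^ (Nat.card F ^ n - 1) = 1 := by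
          rw [← hcardL]
          exact pow_card_eq_one'
        have h4 : x ^ (Nat.card F ^ n - 1) = 1 := congrArg Units.val h3
        have h5 : x ^ b = x ^ (a * Nat.card F ^ k) := pow_eq_pow_of_modEq h h4
        rw [← map_pow θ₀, ← map_pow θ₀, ← map_pow j, ← map_pow j, h5]
    · intro h
      obtain ⟨γ, hγ⟩ := IsCyclic.exists_ofOrder_eq_natCard (α := Lˣ)
      have h3 := h (γ : L)
      rw [hθ, hθ', map_pow, map_pow, ← pow_mul, mul_comm (Nat.card F ^ k) a, ← map_pow θ₀, ← map_pow θ₀,
        ← map_pow j, ← map_pow j] at h3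
      have h4 := j.injective (hθ₀ h3)
      have h5 : γ ^ b = γ ^ (a * Nat.card F ^ k) := Units.ext h4
      rw [pow_eq_pow_iff_modEq, hγ, hcardL] at h5
      exact h5
  rw [← h2, ← h1, Characters.Core.classInner_def, Characters.Core.classInner_def]
  congr 1
  refine Finset.sum_congr rfl fun g _ => ?_
  rw [cusp, cusp, kap_ext j (θ' := powTheta θ₀ a ha) (fun x => (hθ x).symm) (dvd_of_eq hV),
    kap_ext j (θ' := powTheta θ₀ b hb) (fun x => (hθ' x).symm) (dvd_of_eq hV), map_mul, map_pow, map_neg,
    map_one]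
  have h3 : ((-1 : ℂ)) ^ (Module.finrank F V - 1) * (-1) ^ (Module.finrank F V - 1) = 1 := by
    rw [← mul_pow, neg_one_mul, neg_neg, one_pow]
  linear_combination (kap (lb K (powTheta θ₀ a ha)) (g : V →ₗ[F] V) ⊤ *
    conj (kap (lb K (powTheta θ₀ b hb)) (g : V →ₗ[F] V) ⊤)) * h3

/-- `θ` is regular: not fixed by a nontrivial power of the Frobenius -/
def Regular (F : Type u) {L : Type w} [Field L] (n : ℕ) (θ : L →*₀ ℂ) : Prop :=
  ∀ i, 0 < i → i < n → ∃ x : L, θ x ≠ θ (x ^ Nat.card F ^ i)

/-- **Irreducibility** of the cuspidal characters for regular `θ`. -/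
theorem cusp_isIrr (θ : L →*₀ ℂ) (hV : Module.finrank F V = Module.finrank F L)
    (hreg : Regular F (Module.finrank F L) θ) :
    IsIrrCharacter (V →ₗ[F] V)ˣ (fun g => cusp L θ (g : V →ₗ[F] V)) := by
  classical
  have : Finite (V →ₗ[F] V) := DFunLike.finite _
  have : Fintype (V →ₗ[F] V)ˣ := Fintype.ofFinite _
  have hn0 : 0 < Module.finrank F L := Module.finrank_pos
  have h1 : classInner (fun g : (V →ₗ[F] V)ˣ => cusp L θ (g : V →ₗ[F] V))
      (fun g : (V →ₗ[F] V)ˣ => cusp L θ (g : V →ₗ[F] V)) = 1 := by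
    rw [cusp_inner θ θ hV]
    have h2 : ((Finset.range (Module.finrank F L)).filter fun i =>
        ∀ x : L, θ x = θ (x ^ Nat.card F ^ i)) = {0} := by
      ext i
      rw [Finset.mem_filter, Finset.mem_singleton, Finset.mem_range]
      constructor
      · rintro ⟨hi, h⟩
        by_contra h0
        obtain ⟨x, hx⟩ := hreg i (Nat.pos_of_ne_zero h0) hi
        exact hx (h x)
      · rintro rfl
        exact ⟨hn0, fun x => by rw [pow_zero, pow_one]⟩
    rw [h2, Finset.card_singleton, Nat.cast_one]
  have h3 := isIrr_sign (cusp_generalized (V := V) θ hV) h1 (m := 0)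
    (degP_pos (Finite.one_lt_card (α := F)) (Module.finrank F V)) (by
      rw [pow_zero, one_mul]
      exact cusp_one L θ (hV ▸ hn0))
  have h4 : (fun g : (V →ₗ[F] V)ˣ => (-1 : ℂ) ^ 0 * cusp L θ (g : V →ₗ[F] V)) =
      fun g : (V →ₗ[F] V)ˣ => cusp L θ (g : V →ₗ[F] V) := by
    funext g
    rw [pow_zero, one_mul]
  rwa [h4] at h3

omit [Field F] [Finite F] [Finite L] [Algebra F L] in
theorem regular_iff {n : ℕ} {θ : L →*₀ ℂ} :
    Regular F n θ ↔ ∀ i, 0 < i → i < n → ¬ ∀ x : L, θ x = θ (x ^ Nat.card F ^ i) := by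
  refine forall_congr' fun i => forall_congr' fun _ => forall_congr' fun _ => ?_
  rw [not_forall]

/-- an injective multiplicative map is regular -/
theorem regular_of_injective {θ : L →*₀ ℂ} (hθ : Function.Injective θ) :
    Regular F (Module.finrank F L) θ := by
  rw [regular_iff]
  intro i hi hin h
  obtain ⟨γ, hγ⟩ := IsCyclic.exists_ofOrder_eq_natCard (α := Lˣ)
  have h1 := hθ (h (γ : L))
  have h2 : γ ^ 1 = γ ^ Nat.card F ^ i := Units.ext (by rw [pow_one]; exact h1)
  rw [pow_eq_pow_iff_modEq, hγ, Nat.card_units, Module.natCard_eq_pow_finrank (K := F)] at h2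
  have hq : 2 ≤ Nat.card F := Finite.one_lt_card
  have hn2 : 2 ≤ Module.finrank F L := by omega
  have h3 := lt_pow_sub_one hq hn2 hin
  have h4 := lt_pow_sub_one hq hn2 (i := 0) (by omega)
  rw [pow_zero] at h4
  have h5 := Nat.ModEq.eq_of_lt_of_lt h2 h4 h3
  have h6 := Nat.one_lt_pow hi.ne' (show 1 < Nat.card F by omega)
  omega

theorem exists_frob (F : Type u) [Field F] [Finite F] (L : Type w) [Field L] [Algebra F L] (i : ℕ) :
    ∃ j : L →ₐ[F] L, ∀ x, j x = x ^ Nat.card F ^ i := by
  have : Fintype F := Fintype.ofFinite F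
  induction i with
  | zero => exact ⟨AlgHom.id F L, fun x => by rw [pow_zero, pow_one]; rfl⟩
  | succ i ih =>
    obtain ⟨j, hj⟩ := ih
    refine ⟨(FiniteField.frobeniusAlgHom F L).comp j, fun x => ?_⟩
    rw [AlgHom.comp_apply, hj, pow_succ, pow_mul, Nat.card_eq_fintype_card]
    rfl

/-- Two regular maps define the same character if and only if they are conjugate under the
Frobenius. -/
theorem cusp_eq_iff (θ θ' : L →*₀ ℂ) (hV : Module.finrank F V = Module.finrank F L)
    (hreg : Regular F (Module.finrank F L) θ) :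
    (∀ g : (V →ₗ[F] V)ˣ, cusp L θ (g : V →ₗ[F] V) = cusp L θ' (g : V →ₗ[F] V)) ↔
      ∃ i < Module.finrank F L, ∀ x : L, θ' x = θ (x ^ Nat.card F ^ i) := by
  classical
  have : Finite (V →ₗ[F] V) := DFunLike.finite _
  have : Fintype (V →ₗ[F] V)ˣ := Fintype.ofFinite _
  constructor
  · intro h
    have h1 : classInner (fun g : (V →ₗ[F] V)ˣ => cusp L θ (g : V →ₗ[F] V))
        (fun g : (V →ₗ[F] V)ˣ => cusp L θ' (g : V →ₗ[F] V)) = 1 := by
      have h2 : (fun g : (V →ₗ[F] V)ˣ => cusp L θ' (g : V →ₗ[F] V)) =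
          (fun g : (V →ₗ[F] V)ˣ => cusp L θ (g : V →ₗ[F] V)) := funext fun g => (h g).symm
      rw [h2]
      exact Characters.Core.classInner_irr_self (cusp_isIrr θ hV hreg)
    rw [cusp_inner θ θ' hV] at h1
    have h2 : ((Finset.range (Module.finrank F L)).filter fun i =>
        ∀ x : L, θ' x = θ (x ^ Nat.card F ^ i)).card ≠ 0 := by
      intro h0
      rw [h0] at h1
      simp at h1
    rw [Finset.card_ne_zero] at h2
    obtain ⟨i, hi⟩ := h2
    rw [Finset.mem_filter, Finset.mem_range] at hi
    exact ⟨i, hi.1, hi.2⟩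
  · rintro ⟨i, hi, h⟩ g
    have hsum : ∀ f : F[X], Irreducible f → f.natDegree ∣ Module.finrank F L → lb L θ f = lb L θ' f := by
      intro f hirr hd
      obtain ⟨j, hj⟩ := exists_frob F L i
      exact (lb_ext j (fun x => by rw [hj, h]) hirr hd).symm
    rw [cusp, cusp, kap_congr_B (lb_mul L θ) (lb_mul L θ')
      (fun f _ hirr hd => hsum f hirr (hV ▸ hd)) (g : V →ₗ[F] V)]

end gen

end Cfsg.Agent.H139.Cusp
end
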