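import Cfsg.Agent.H139.Cusp.Orth
import Cfsg.Agent.H950.Count
import Mathlib.LinearAlgebra.Matrix.GeneralLinearGroup.Defs
set_option linter.all false

-- part: H139/Cusp/DegreeOne
section
/-!
# The value of `kap` at the identity
-/

set_option autoImplicit false

open Polynomial

namespace Cfsg.Agent.H139.Cusp

universe u v

attribute [local instance] fintypeHom fintypeSub finite_quot

/-! ### a telescoping sum -/

section telescope

variable (x : ℂ)

/-- `∏_{j<k} (1 - x^{n-j})` -/
noncomputable def qq (n k : ℕ) : ℂ := ∏ j ∈ Finset.range k, (1 - x ^ (n - j))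

theorem qq_succ (n k : ℕ) : qq x n (k + 1) = qq x n k * (1 - x ^ (n - k)) := by
  rw [qq, Finset.prod_range_succ]
  rfl

theorem qq_succ' (n k : ℕ) : qq x (n + 1) (k + 1) = (1 - x ^ (n + 1)) * qq x n k := by
  rw [qq, Finset.prod_range_succ', mul_comm]
  congr 1
  refine Finset.prod_congr rfl fun j _ => ?_
  rw [Nat.add_sub_add_right]

theorem qq_self (n : ℕ) : qq x n (n + 1) = 0 := by
  rw [qq_succ, Nat.sub_self, pow_zero, sub_self, mul_zero]

theorem sum_qq (n : ℕ) : ∑ k ∈ Finset.range (n + 1), qq x n k * x ^ (n - k) = 1 := by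
  have h : ∀ k ∈ Finset.range (n + 1), qq x n k * x ^ (n - k) = qq x n k - qq x n (k + 1) := by
    intro k _
    rw [qq_succ]
    ring
  rw [Finset.sum_congr rfl h, Finset.sum_range_sub', qq_self]
  simp [qq]

theorem sum_qq_div (hx : ∀ k : ℕ, 1 - x ^ (k + 1) ≠ 0) (n : ℕ) :
    ∑ k ∈ Finset.range n, qq x n (k + 1) / (1 - x ^ (k + 1)) = n := by
  induction n with
  | zero => simp
  | succ n ih =>
    have h1 : ∀ k ∈ Finset.range (n + 1), qq x (n + 1) (k + 1) / (1 - x ^ (k + 1)) =
        qq x n (k + 1) / (1 - x ^ (k + 1)) + qq x n k * x ^ (n - k) := by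
      intro k hk
      have hk' : k ≤ n := Nat.lt_succ_iff.1 (Finset.mem_range.1 hk)
      rw [div_add' _ _ _ (hx k), qq_succ', qq_succ]
      congr 1
      have h2 : x ^ (n + 1) = x ^ (n - k) * x ^ (k + 1) := by
        rw [← pow_add]
        congr 1
        omega
      rw [h2]
      ring
    rw [Finset.sum_congr rfl h1, Finset.sum_add_distrib, sum_qq, Finset.sum_range_succ, ih, qq_self]
    push_cast
    ring

theorem qq_self' (n : ℕ) : qq x n n = ∏ i ∈ Finset.range n, (1 - x ^ (i + 1)) := by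
  rw [qq, ← Finset.prod_range_reflect]
  refine Finset.prod_congr rfl fun j hj => ?_
  have := Finset.mem_range.1 hj
  congr 2
  omega

end telescope

section

variable {F : Type u} [Field F] [Finite F]

/-- the number of `k`-subspaces -/
theorem card_subspaces {V : Type v} [AddCommGroup V] [Module F V] [Finite V] {n k : ℕ}
    (hV : Module.finrank F V = n) (hk : k ≤ n) :
    (Nat.card {W : Submodule F V // Module.finrank F W = k} : ℂ) * qq (Nat.card F) k k =
      qq (Nat.card F) n k := by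
  have : Fintype F := Fintype.ofFinite F
  have h1 := H950.card_subspaces_eq (F := F) (V := V) hV hk (q := Nat.card F) (by rw [Nat.card_eq_fintype_card])
  have hq : 1 ≤ Nat.card F := Nat.card_pos
  have h2 : ∀ m : ℕ, qq (Nat.card F) m k = (-1) ^ k * ((∏ j : Fin k, (Nat.card F ^ (m - j.val) - 1) : ℕ) : ℂ) := by
    intro m
    rw [qq, ← Fin.prod_univ_eq_prod_range (fun j => (1 - (Nat.card F : ℂ) ^ (m - j))) k]
    have : ((-1 : ℂ)) ^ k = ∏ _j : Fin k, (-1 : ℂ) := by
      rw [Finset.prod_const, Finset.card_univ, Fintype.card_fin]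
    rw [this, Nat.cast_prod, ← Finset.prod_mul_distrib]
    refine Finset.prod_congr rfl fun j _ => ?_
    rw [Nat.cast_sub (Nat.one_le_pow _ _ hq)]
    push_cast
    ring
  rw [h2, h2, ← h1]
  push_cast
  ring

theorem kap_one (B : F[X] → ℂ) (hB : ∀ p q : F[X], p.Monic → q.Monic → B (p * q) = B p + B q) (n : ℕ) :
    ∀ (V : Type v) [AddCommGroup V] [Module F V] [Finite V], Module.finrank F V = n + 1 →
      kap B (1 : V →ₗ[F] V) ⊤ = B (X - 1) * ∏ i ∈ Finset.range n, (1 - (Nat.card F : ℂ) ^ (i + 1)) := by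
  induction n using Nat.strong_induction_on with
  | _ n ih =>
    intro V _ _ _ hV
    classical
    have hq1 : 1 < Nat.card F := Finite.one_lt_card
    have hx : ∀ k : ℕ, 1 - (Nat.card F : ℂ) ^ (k + 1) ≠ 0 := by
      intro k h
      have h1 : ((Nat.card F ^ (k + 1) : ℕ) : ℂ) = ((1 : ℕ) : ℂ) := by
        push_cast
        linear_combination -h
      have h2 := Nat.cast_injective h1
      exact (Nat.one_lt_pow (Nat.succ_ne_zero k) hq1).ne' h2
    have hB1 : B 1 = 0 := by
      have := hB 1 1 monic_one monic_one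
      rw [mul_one] at this
      linear_combination -this
    have hmon : (X - 1 : F[X]).Monic := by
      rw [← C_1]
      exact monic_X_sub_C 1
    have hpow : ∀ m : ℕ, B ((X - 1) ^ m) = m * B (X - 1) := by
      intro m
      induction m with
      | zero => rw [pow_zero, hB1]; simp
      | succ m ihm =>
        rw [pow_succ, hB _ _ (hmon.pow m) hmon, ihm]
        push_cast
        ring
    have hst : ∀ W : Submodule F V, W ≤ W.comap (1 : V →ₗ[F] V) := fun W x hx => hx
    -- values on proper subspaces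
    have hval : ∀ W : Submodule F V, ∀ k, k < n → Module.finrank F W = k + 1 →
        kap B (1 : V →ₗ[F] V) W = B (X - 1) * ∏ i ∈ Finset.range k, (1 - (Nat.card F : ℂ) ^ (i + 1)) := by
      intro W k hk hW
      rw [kap_eq_top B (hst W)]
      exact ih k hk W hW
    have htot := kap_sum_top B (1 : V →ₗ[F] V)
    rw [LinearMap.charpoly_one, hV, hpow] at htot
    rw [← Finset.sum_fiberwise_of_maps_to (t := Finset.range (n + 2))
      (g := fun W : Submodule F V => Module.finrank F W)
      (fun W _ => Finset.mem_range.2 (by have := Submodule.finrank_le W; omega)),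
      Finset.sum_range_succ, Finset.sum_range_succ'] at htot
    have h0 : ∑ W ∈ Finset.univ.filter (fun W : Submodule F V => Module.finrank F W = 0),
        kap B (1 : V →ₗ[F] V) W = 0 := by
      refine Finset.sum_eq_zero fun W hW => ?_
      rw [Submodule.finrank_eq_zero.1 (Finset.mem_filter.1 hW).2]
      exact kap_bot B hB _
    have htop : ∑ W ∈ Finset.univ.filter (fun W : Submodule F V => Module.finrank F W = n + 1),
        kap B (1 : V →ₗ[F] V) W = kap B (1 : V →ₗ[F] V) ⊤ := by
      refine Finset.sum_eq_single (⊤ : Submodule F V) ?_ ?_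
      · intro W hW hWt
        exact absurd (Submodule.eq_top_of_finrank_eq ((Finset.mem_filter.1 hW).2.trans hV.symm)) hWt
      · intro h
        exact absurd (Finset.mem_filter.2 ⟨Finset.mem_univ _, by rw [finrank_top, hV]⟩) h
    have hmid : ∀ k ∈ Finset.range n,
        ∑ W ∈ Finset.univ.filter (fun W : Submodule F V => Module.finrank F W = k + 1),
          kap B (1 : V →ₗ[F] V) W =
        B (X - 1) * (qq (Nat.card F) (n + 1) (k + 1) / (1 - (Nat.card F : ℂ) ^ (k + 1))) := by
      intro k hk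
      have hk' := Finset.mem_range.1 hk
      rw [Finset.sum_congr rfl fun W hW => hval W k hk' (Finset.mem_filter.1 hW).2, Finset.sum_const,
        nsmul_eq_mul]
      have h1 : ((Finset.univ.filter (fun W : Submodule F V => Module.finrank F W = k + 1)).card : ℂ) =
          Nat.card {W : Submodule F V // Module.finrank F W = k + 1} := by
        rw [Nat.card_eq_fintype_card, Fintype.card_subtype]
      rw [h1, ← card_subspaces hV (by omega : k + 1 ≤ n + 1), qq_self', Finset.prod_range_succ]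
      field_simp [hx k]
    rw [h0, htop, Finset.sum_congr rfl hmid, ← Finset.mul_sum, add_zero] at htot
    have hsum := sum_qq_div (Nat.card F : ℂ) hx (n + 1)
    rw [Finset.sum_range_succ, qq_self', Finset.prod_range_succ, mul_div_assoc, div_self (hx n), mul_one] at hsum
    linear_combination htot - B (X - 1) * hsum

end

end Cfsg.Agent.H139.Cusp
end

-- part: H139/Cusp/Main
section
/-!
# Cuspidal characters of `GL_n(q)` of degree `(q - 1)(q² - 1)⋯(q^(n-1) - 1)`
-/

set_option autoImplicit false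

open Polynomial Cfsg
open scoped ComplexConjugate MatrixGroups

namespace Cfsg.Agent.H139.Cusp

universe u v w

attribute [local instance] fintypeHom fintypeSub finite_quot

/-! ### splitting fields -/

theorem splits_of_le {F : Type u} [Field F] [Finite F] {K : Type w} [Field K] [Algebra F K] {n N : ℕ}
    (hN : ∀ d, 0 < d → d ≤ n → d ∣ N) (hN0 : N ≠ 0)
    (hK : ((X ^ (Nat.card F ^ N) - X : F[X]).map (algebraMap F K)).Splits) (d : ℕ) (hd : d ≤ n) :
    ∀ h : F[X], h.Monic → h.natDegree = d → (h.map (algebraMap F K)).Splits := by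
  induction d using Nat.strong_induction_on with
  | _ d ih =>
    intro h hmon hdeg
    rcases Nat.eq_zero_or_pos d with h0 | h0
    · have : h = 1 := eq_one_of_monic_natDegree_zero hmon (hdeg.trans h0)
      rw [this, Polynomial.map_one]
      exact Splits.one
    · have hnu : ¬ IsUnit h := by
        intro h1
        rw [hmon.isUnit_iff] at h1
        rw [h1, natDegree_one] at hdeg
        omega
      obtain ⟨f, hf, hirr, c, hc⟩ := exists_monic_irreducible_factor h hnu
      have hcm : c.Monic := by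
        rw [hc] at hmon
        exact hf.of_mul_monic_left hmon
      have hdd : f.natDegree + c.natDegree = d := by rw [← hdeg, hc, hf.natDegree_mul hcm]
      have hfp := hirr.natDegree_pos
      have h1 : (f.map (algebraMap F K)).Splits := by
        have h2 : f ∣ X ^ (Nat.card F ^ N) - X :=
          hirr.natDegree_dvd_iff_dvd_X_pow_card_pow_sub_X.1 (hN _ hfp (by omega))
        refine hK.of_dvd ?_ (Polynomial.map_dvd _ h2)
        exact (Polynomial.map_ne_zero_iff (algebraMap F K).injective).2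
          (FiniteField.X_pow_card_pow_sub_X_ne_zero _ hN0 Finite.one_lt_card)
      have h2 := ih c.natDegree (by omega) (by omega) c hcm rfl
      rw [hc, Polynomial.map_mul]
      exact h1.mul h2

/-! ### counting congruences -/

theorem lt_pow_sub_one {q n i : ℕ} (hq : 2 ≤ q) (hn : 2 ≤ n) (hi : i < n) : q ^ i < q ^ n - 1 := by
  have h1 : q ^ i ≤ q ^ (n - 1) := Nat.pow_le_pow_right (by omega) (by omega)
  have h2 : q ^ n = q ^ (n - 1) * q := by rw [← pow_succ]; congr 1; omega
  have h3 : q ^ 1 ≤ q ^ (n - 1) := Nat.pow_le_pow_right (by omega) (by omega)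
  rw [pow_one] at h3
  have h4 : q ^ (n - 1) * 2 ≤ q ^ n := by rw [h2]; exact Nat.mul_le_mul_left _ hq
  omega

theorem card_pairs_self {q n a : ℕ} (hq : 2 ≤ q) (hn : 2 ≤ n) (ha : a.Coprime (q ^ n - 1)) :
    ((Finset.range n ×ˢ Finset.range n).filter fun p =>
      a * q ^ p.1 ≡ a * q ^ p.2 [MOD (q ^ n - 1)]).card = n := by
  have h1 : ((Finset.range n ×ˢ Finset.range n).filter fun p =>
      a * q ^ p.1 ≡ a * q ^ p.2 [MOD (q ^ n - 1)]) = (Finset.range n).diag := by
    ext ⟨i, j⟩
    simp only [Finset.mem_filter, Finset.mem_product, Finset.mem_range, Finset.mem_diag]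
    constructor
    · rintro ⟨⟨hi, hj⟩, h⟩
      refine ⟨hi, ?_⟩
      have h2 := Nat.ModEq.cancel_left_of_coprime (by rw [Nat.gcd_comm]; exact ha) h
      have h3 := Nat.ModEq.eq_of_lt_of_lt h2 (lt_pow_sub_one hq hn hi) (lt_pow_sub_one hq hn hj)
      exact Nat.pow_right_injective hq h3
    · rintro ⟨hi, rfl⟩
      exact ⟨⟨hi, hi⟩, rfl⟩
  rw [h1, Finset.diag_card, Finset.card_range]

theorem exists_of_card_ne {q n a b : ℕ} (hq : 2 ≤ q) (hn : 2 ≤ n)
    (h : ((Finset.range n ×ˢ Finset.range n).filter fun p =>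
      a * q ^ p.1 ≡ b * q ^ p.2 [MOD (q ^ n - 1)]).card ≠ 0) :
    ∃ k < n, (b : ZMod (q ^ n - 1)) = a * q ^ k := by
  rw [Finset.card_ne_zero] at h
  obtain ⟨⟨i, j⟩, hp⟩ := h
  simp only [Finset.mem_filter, Finset.mem_product, Finset.mem_range] at hp
  obtain ⟨⟨hi, hj⟩, hij⟩ := hp
  have hqn : (q : ZMod (q ^ n - 1)) ^ n = 1 := by
    have h1 : 1 ≤ q ^ n := Nat.one_le_pow _ _ (by omega)
    have h2 : ((q ^ n - 1 : ℕ) : ZMod (q ^ n - 1)) = 0 := ZMod.natCast_self _
    rw [Nat.cast_sub h1] at h2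
    push_cast at h2
    exact sub_eq_zero.1 h2
  refine ⟨(i + (n - j)) % n, Nat.mod_lt _ (by omega), ?_⟩
  rw [← pow_eq_pow_mod _ hqn, pow_add, ← mul_assoc]
  have h3 : (a : ZMod (q ^ n - 1)) * q ^ i = b * q ^ j := by
    have := (ZMod.natCast_eq_natCast_iff _ _ _).2 hij
    push_cast at this
    exact this
  rw [h3, mul_assoc, ← pow_add, Nat.add_sub_cancel' hj.le, hqn, mul_one]

/-! ### the inner product -/

section

variable {F : Type u} [Field F] [Finite F] {K : Type w} [Field K] [Finite K] [Algebra F K]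

open Classical in
theorem inner_kap {V : Type v} [AddCommGroup V] [Module F V] [Finite V] {n : ℕ}
    (hV : Module.finrank F V = n) (hn : 0 < n)
    (hK : ∀ h : F[X], h.Monic → h.natDegree ≤ n → (h.map (algebraMap F K)).Splits)
    (hdvd : Nat.card F ^ n - 1 ∣ Nat.card Kˣ) {θ : K →*₀ ℂ} (hθ : Function.Injective θ)
    {a b : ℕ} (ha : a ≠ 0) (hb : b ≠ 0) [Fintype (V →ₗ[F] V)ˣ] :
    classInner (fun g : (V →ₗ[F] V)ˣ => kap (lb K (powTheta θ a ha)) (g : V →ₗ[F] V) ⊤)
      (fun g : (V →ₗ[F] V)ˣ => kap (lb K (powTheta θ b hb)) (g : V →ₗ[F] V) ⊤) =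
    (((Finset.range n ×ˢ Finset.range n).filter fun p =>
        a * Nat.card F ^ p.1 ≡ b * Nat.card F ^ p.2 [MOD (Nat.card F ^ n - 1)]).card : ℂ) / n := by
  have : Fintype K := Fintype.ofFinite K
  have hfm := finite_monN (F := F) n
  have : Fintype (MonN F n) := Fintype.ofFinite _
  have hq1 : 1 < Nat.card F := Finite.one_lt_card
  have hqn : 1 < Nat.card F ^ n := Nat.one_lt_pow hn.ne' hq1
  have h1 := pairing (F := F) (V := V) (lb K (powTheta θ a ha)) (lb K (powTheta θ b hb))
    (lb_mul K _) (lb_mul K _) hV hn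
  have h2 := sum_monN (F := F) (powTheta θ a ha) (powTheta θ b hb) hn hK
  rw [sum_conjSum hθ hn hdvd ha hb] at h2
  rw [Characters.Core.classInner_def]
  have hM : ((Nat.card F ^ n - 1 : ℕ) : ℂ) = (Nat.card F : ℂ) ^ n - 1 := by
    rw [Nat.cast_sub hqn.le]
    push_cast
    rfl
  have hM0 : (Nat.card F : ℂ) ^ n - 1 ≠ 0 := by
    rw [← hM]
    exact Nat.cast_ne_zero.2 (by omega)
  have hn0 : (n : ℂ) ≠ 0 := Nat.cast_ne_zero.2 hn.ne'
  have hG0 : (Nat.card (V →ₗ[F] V)ˣ : ℂ) ≠ 0 := Nat.cast_ne_zero.2 Nat.card_pos.ne'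
  rw [hM] at h2
  rw [eq_div_iff hn0]
  apply mul_left_cancel₀ hM0
  rw [← h2]
  generalize (∑ g : (V →ₗ[F] V)ˣ, kap (lb K (powTheta θ a ha)) (g : V →ₗ[F] V) ⊤ *
        conj (kap (lb K (powTheta θ b hb)) (g : V →ₗ[F] V) ⊤)) = S at h1 ⊢
  rw [show ((Nat.card F : ℂ) ^ n - 1) * ((Nat.card (V →ₗ[F] V)ˣ : ℂ)⁻¹ * S * n) =
      (Nat.card (V →ₗ[F] V)ˣ : ℂ)⁻¹ * (((Nat.card F : ℂ) ^ n - 1) * S) * n by ring, h1,
    inv_mul_cancel_left₀ hG0, mul_comm]

end

/-! ### unipotent radicals -/

section radical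

variable {F : Type u} [Field F] {n : ℕ}

/-- the span of the first `m` coordinate vectors -/
def firstCoords (F : Type u) [Field F] (n m : ℕ) : Submodule F (Fin n → F) where
  carrier := {v | ∀ j : Fin n, m ≤ j.val → v j = 0}
  zero_mem' := fun _ _ => rfl
  add_mem' := fun {v w} hv hw j hj => by rw [Pi.add_apply, hv j hj, hw j hj, add_zero]
  smul_mem' := fun c v hv j hj => by rw [Pi.smul_apply, hv j hj, smul_zero]

theorem mem_firstCoords {m : ℕ} {v : Fin n → F} :
    v ∈ firstCoords F n m ↔ ∀ j : Fin n, m ≤ j.val → v j = 0 := Iff.rfl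

theorem exists_phi {V : Type v} [AddCommGroup V] [Module F V] {N : Submodule F V} (f : V →ₗ[F] V)
    (h1 : ∀ v, f v ∈ N) (h2 : ∀ v ∈ N, f v = 0) : ∃ t : (V ⧸ N) →ₗ[F] N, phi N t = f := by
  refine ⟨N.liftQ (LinearMap.codRestrict N f h1) fun v hv => ?_, ?_⟩
  · rw [LinearMap.mem_ker]
    exact Subtype.ext (h2 v hv)
  · apply LinearMap.ext
    intro v
    rfl

theorem phi_injective {V : Type v} [AddCommGroup V] [Module F V] {N : Submodule F V} :
    Function.Injective (phi N) := by
  intro t t' h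
  apply LinearMap.ext
  intro x
  obtain ⟨v, rfl⟩ := N.mkQ_surjective x
  exact Subtype.ext (LinearMap.congr_fun h v)

theorem phi_phi {V : Type v} [AddCommGroup V] [Module F V] {N : Submodule F V} (t : (V ⧸ N) →ₗ[F] N) :
    phi N t * phi N t = 0 := by
  apply LinearMap.ext
  intro v
  rw [Module.End.mul_apply, phi_of_mem N t (phi_mem N t v)]
  rfl

/-- the unit `1 + phi t` -/
def unitPhi {V : Type v} [AddCommGroup V] [Module F V] {N : Submodule F V} (t : (V ⧸ N) →ₗ[F] N) :
    (V →ₗ[F] V)ˣ where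
  val := 1 + phi N t
  inv := 1 - phi N t
  val_inv := by
    rw [mul_sub, mul_one, add_mul, one_mul, phi_phi, add_zero, add_sub_cancel_right]
  inv_val := by
    rw [mul_add, mul_one, sub_mul, one_mul, phi_phi, sub_zero, sub_add_cancel]

open Classical in
theorem cuspidal_sum [Finite F] (B : F[X] → ℂ)
    (hB : ∀ p q : F[X], p.Monic → q.Monic → B (p * q) = B p + B q) {m : ℕ} (hm : 0 < m) (hmn : m < n)
    [Fintype (GL (Fin n) F)] :
    ∑ g : GL (Fin n) F,
      (if (∀ i j : Fin n, ¬ (i.val < m ∧ m ≤ j.val) →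
          (g : Matrix (Fin n) (Fin n) F) i j = (1 : Matrix (Fin n) (Fin n) F) i j)
        then kap B (Matrix.GeneralLinearGroup.toLin g : (Fin n → F) →ₗ[F] (Fin n → F)) ⊤ else 0) = 0 := by
  let N := firstCoords F n m
  have hN0 : N ≠ ⊥ := by
    intro h
    have h1 : (Pi.single ⟨0, by omega⟩ 1 : Fin n → F) ∈ N := by
      rw [mem_firstCoords]
      intro j hj
      rw [Pi.single_apply, if_neg]
      rintro rfl
      simp only at hj
      omega
    rw [h, Submodule.mem_bot] at h1
    have h2 := congrFun h1 ⟨0, by omega⟩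
    rw [Pi.single_eq_same] at h2
    exact one_ne_zero h2
  have hN1 : N ≠ ⊤ := by
    intro h
    have h1 : (Pi.single ⟨m, hmn⟩ 1 : Fin n → F) ∈ N := h ▸ Submodule.mem_top
    have h2 := (mem_firstCoords.1 h1) ⟨m, hmn⟩ le_rfl
    rw [Pi.single_eq_same] at h2
    exact one_ne_zero h2
  have hv := kap_vanish B hB _ (Fin n → F) rfl N (1 : (Fin n → F) →ₗ[F] (Fin n → F)) (fun x hx => hx) hN0 hN1
  rw [← Finset.sum_filter, ← hv]
  symm
  refine Finset.sum_nbij (fun t => Matrix.GeneralLinearGroup.toLin.symm (unitPhi t)) ?_ ?_ ?_ ?_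
  · intro t _
    rw [Finset.mem_filter]
    refine ⟨Finset.mem_univ _, fun i j hij => ?_⟩
    have h1 : (Matrix.GeneralLinearGroup.toLin.symm (unitPhi t) : Matrix (Fin n) (Fin n) F) =
        LinearMap.toMatrix' (1 + phi N t : (Fin n → F) →ₗ[F] (Fin n → F)) := rfl
    rw [h1, map_add, Matrix.add_apply, LinearMap.toMatrix'_one]
    rw [add_eq_left, LinearMap.toMatrix'_apply]
    by_cases hj : m ≤ j.val
    · have hi : m ≤ i.val := by
        by_contra hi
        exact hij ⟨by omega, hj⟩
      exact (mem_firstCoords.1 (phi_mem N t _)) i hi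
    · have h2 : (Pi.single j 1 : Fin n → F) ∈ N := by
        rw [mem_firstCoords]
        intro k hk
        rw [Pi.single_apply, if_neg]
        rintro rfl
        exact hj hk
      have h3 := phi_of_mem N t h2
      have h4 := congrFun h3 i
      exact h4
  · intro t _ t' _ h
    have h1 := Matrix.GeneralLinearGroup.toLin.symm.injective h
    have h2 : (1 + phi N t : (Fin n → F) →ₗ[F] (Fin n → F)) = 1 + phi N t' := congrArg Units.val h1
    exact phi_injective (add_left_cancel h2)
  · intro g hg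
    have hg' := (Finset.mem_filter.1 hg).2
    have hf1 : ∀ v, ((Matrix.GeneralLinearGroup.toLin g : (Fin n → F) →ₗ[F] (Fin n → F)) - 1) v ∈ N := by
      intro v
      rw [mem_firstCoords]
      intro i hi
      rw [LinearMap.sub_apply, Pi.sub_apply, Matrix.GeneralLinearGroup.coe_toLin, Matrix.mulVecLin_apply,
        Module.End.one_apply, sub_eq_zero]
      have h1 : (g : Matrix (Fin n) (Fin n) F).mulVec v i = (1 : Matrix (Fin n) (Fin n) F).mulVec v i := by
        show (∑ j, (g : Matrix (Fin n) (Fin n) F) i j * v j) = ∑ j, (1 : Matrix (Fin n) (Fin n) F) i j * v j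
        refine Finset.sum_congr rfl fun j _ => ?_
        rw [hg' i j (fun h => by omega)]
      rw [h1, Matrix.one_mulVec]
    have hf2 : ∀ v ∈ N, ((Matrix.GeneralLinearGroup.toLin g : (Fin n → F) →ₗ[F] (Fin n → F)) - 1) v = 0 := by
      intro v hv
      apply _root_.funext
      intro i
      rw [LinearMap.sub_apply, Pi.sub_apply, Matrix.GeneralLinearGroup.coe_toLin, Matrix.mulVecLin_apply,
        Module.End.one_apply, Pi.zero_apply, sub_eq_zero]
      have h1 : (g : Matrix (Fin n) (Fin n) F).mulVec v i = (1 : Matrix (Fin n) (Fin n) F).mulVec v i := by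
        show (∑ j, (g : Matrix (Fin n) (Fin n) F) i j * v j) = ∑ j, (1 : Matrix (Fin n) (Fin n) F) i j * v j
        refine Finset.sum_congr rfl fun j _ => ?_
        by_cases hj : m ≤ j.val
        · rw [mem_firstCoords.1 hv j hj, mul_zero, mul_zero]
        · rw [hg' i j (fun h => hj h.2)]
      rw [h1, Matrix.one_mulVec]
    obtain ⟨t, ht⟩ := exists_phi (N := N) _ hf1 hf2
    refine ⟨t, Finset.mem_coe.2 (Finset.mem_univ _), ?_⟩
    show Matrix.GeneralLinearGroup.toLin.symm (unitPhi t) = g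
    rw [MulEquiv.symm_apply_eq]
    apply Units.ext
    show 1 + phi N t = _
    rw [ht, add_sub_cancel]
  · intro t _
    congr 1
    rw [MulEquiv.apply_symm_apply]
    rfl

end radical

/-! ### the family -/

theorem classInner_comp {G H : Type*} [Group G] [Group H] [Fintype G] [Fintype H] (e : G ≃* H)
    (φ ψ : H → ℂ) : classInner (fun g => φ (e g)) (fun g => ψ (e g)) = classInner φ ψ := by
  rw [Characters.Core.classInner_def, Characters.Core.classInner_def, Nat.card_congr e.toEquiv]
  congr 1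
  exact Fintype.sum_equiv e.toEquiv _ _ fun g => rfl

theorem lb_X_sub_one {F : Type u} [Field F] (K : Type w) [Field K] [Algebra F K] (θ : K →*₀ ℂ) :
    lb K θ (X - 1 : F[X]) = 1 := by
  rw [lb, Polynomial.map_sub, Polynomial.map_X, Polynomial.map_one, ← C_1, roots_X_sub_C,
    Multiset.map_singleton, Multiset.sum_singleton, map_one]

/-- `kap` on the matrix group -/
noncomputable def kapGL {F : Type u} [Field F] [Finite F] {n : ℕ} (B : F[X] → ℂ) (g : GL (Fin n) F) : ℂ :=
  kap B (Matrix.GeneralLinearGroup.toLin g : (Fin n → F) →ₗ[F] (Fin n → F)) ⊤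

section

variable {F : Type u} [Field F] [Finite F] {K : Type w} [Field K] [Finite K] [Algebra F K] {n : ℕ}

omit [Finite K] in
theorem kapGL_generalized (θ : K →*₀ ℂ) (hθ : Function.Injective θ)
    (hK : ∀ h : F[X], h.Monic → h.natDegree ≤ n → (h.map (algebraMap F K)).Splits) :
    IsGeneralizedCharacter (GL (Fin n) F) (kapGL (n := n) (lb (F := F) K θ)) :=
  isGeneralizedCharacter_comp (Matrix.GeneralLinearGroup.toLin : GL (Fin n) F ≃* _).toMonoidHom
      (kap_generalized K θ hθ hK n le_rfl (Fin n → F) (Module.finrank_fin_fun F))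

open Classical in
theorem inner_kapGL (hn : 0 < n)
    (hK : ∀ h : F[X], h.Monic → h.natDegree ≤ n → (h.map (algebraMap F K)).Splits)
    (hdvd : Nat.card F ^ n - 1 ∣ Nat.card Kˣ) {θ : K →*₀ ℂ} (hθ : Function.Injective θ)
    {a b : ℕ} (ha : a ≠ 0) (hb : b ≠ 0) [Fintype (GL (Fin n) F)] :
    classInner (kapGL (n := n) (lb (F := F) K (powTheta θ a ha)))
      (kapGL (n := n) (lb (F := F) K (powTheta θ b hb))) =
    (((Finset.range n ×ˢ Finset.range n).filter fun p =>
        a * Nat.card F ^ p.1 ≡ b * Nat.card F ^ p.2 [MOD (Nat.card F ^ n - 1)]).card : ℂ) / n := by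
  have hfe : Finite ((Fin n → F) →ₗ[F] (Fin n → F)) := DFunLike.finite _
  have : Fintype ((Fin n → F) →ₗ[F] (Fin n → F))ˣ := Fintype.ofFinite _
  have h1 := inner_kap (F := F) (K := K) (V := Fin n → F) (Module.finrank_fin_fun F) hn hK hdvd hθ ha hb
  rw [← h1]
  exact classInner_comp (Matrix.GeneralLinearGroup.toLin : GL (Fin n) F ≃* _)
    (fun g : ((Fin n → F) →ₗ[F] (Fin n → F))ˣ =>
      kap (lb K (powTheta θ a ha)) (g : (Fin n → F) →ₗ[F] (Fin n → F)) ⊤)
    (fun g : ((Fin n → F) →ₗ[F] (Fin n → F))ˣ =>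
      kap (lb K (powTheta θ b hb)) (g : (Fin n → F) →ₗ[F] (Fin n → F)) ⊤)

/-- the degree, as a natural number -/
def degP (q n : ℕ) : ℕ := ∏ i ∈ Finset.range (n - 1), (q ^ (i + 1) - 1)

theorem degP_pos {q : ℕ} (hq : 2 ≤ q) (n : ℕ) : 0 < degP q n := by
  refine Finset.prod_pos fun i _ => ?_
  have := Nat.one_lt_pow (Nat.succ_ne_zero i) hq
  exact Nat.sub_pos_of_lt this

omit [Finite K] in
theorem kapGL_one (hn : 0 < n) (θ : K →*₀ ℂ) :
    kapGL (n := n) (lb (F := F) K θ) 1 = (-1) ^ (n - 1) * (degP (Nat.card F) n : ℂ) := by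
  have hq : 2 ≤ Nat.card F := Finite.one_lt_card
  have h1 := kap_one (F := F) (lb K θ) (lb_mul K _) (n - 1) (Fin n → F)
    (by rw [Module.finrank_fin_fun F]; omega)
  have h2 : kapGL (n := n) (lb (F := F) K θ) 1 = kap (lb K θ) (1 : (Fin n → F) →ₗ[F] (Fin n → F)) ⊤ := by
    rw [kapGL, map_one]
    rfl
  rw [h2, h1, lb_X_sub_one, one_mul]
  have h3 : ((-1 : ℂ)) ^ (n - 1) = ∏ _j ∈ Finset.range (n - 1), (-1 : ℂ) := by
    rw [Finset.prod_const, Finset.card_range]
  rw [h3, degP, Nat.cast_prod, ← Finset.prod_mul_distrib]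
  refine Finset.prod_congr rfl fun i _ => ?_
  rw [Nat.cast_sub (Nat.one_le_pow _ _ (by omega))]
  push_cast
  ring

end

/-- the sign fixing lemma -/
theorem isIrr_sign {G : Type*} [Group G] [Fintype G] {φ : G → ℂ} (hg : IsGeneralizedCharacter G φ)
    (h1 : classInner φ φ = 1) {m P : ℕ} (hP : 0 < P) (hone : φ 1 = (-1) ^ m * (P : ℂ)) :
    IsIrrCharacter G (fun g => (-1) ^ m * φ g) := by
  rcases neg_one_pow_eq_or ℂ m with hs | hs
  · have h1' : (fun g => (-1 : ℂ) ^ m * φ g) = φ := by
      apply _root_.funext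
      intro g
      rw [hs, one_mul]
    rw [h1']
    rcases Characters.Core.isIrr_of_generalized hg h1 with h2 | h2
    · exact h2
    · exfalso
      obtain ⟨k, hk, hk'⟩ := Characters.Core.isIrr_apply_one h2
      rw [Pi.neg_apply, hone, hs, one_mul] at hk'
      have h3 : ((P + k : ℕ) : ℂ) = ((0 : ℕ) : ℂ) := by
        push_cast
        rw [← hk']
        ring
      have h4 := Nat.cast_injective h3
      omega
  · have h1' : (fun g => (-1 : ℂ) ^ m * φ g) = -φ := by
      apply _root_.funext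
      intro g
      rw [hs, Pi.neg_apply, neg_one_mul]
    rw [h1']
    rcases Characters.Core.isIrr_of_generalized hg h1 with h2 | h2
    · exfalso
      obtain ⟨k, hk, hk'⟩ := Characters.Core.isIrr_apply_one h2
      rw [hone, hs, neg_one_mul] at hk'
      have h3 : ((P + k : ℕ) : ℂ) = ((0 : ℕ) : ℂ) := by
        push_cast
        rw [← hk']
        ring
      have h4 := Nat.cast_injective h3
      omega
    · exact h2

open Classical in
theorem exists_family (F : Type u) [Field F] [Finite F] (n : ℕ) (hn : 2 ≤ n) [Fintype (GL (Fin n) F)] :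
    ∃ χ : (ZMod (Nat.card F ^ n - 1))ˣ → IrrCharacter (GL (Fin n) F),
      (∀ a, (χ a : GL (Fin n) F → ℂ) 1 = ∏ i ∈ Finset.Ico 1 n, ((Nat.card F : ℂ) ^ i - 1)) ∧
      (∀ a m, 0 < m → m < n → ∑ g : GL (Fin n) F,
        (if (∀ i j : Fin n, ¬ (i.val < m ∧ m ≤ j.val) →
          (g : Matrix (Fin n) (Fin n) F) i j = (1 : Matrix (Fin n) (Fin n) F) i j)
          then (χ a : GL (Fin n) F → ℂ) g else 0) = 0) ∧
      (∀ a b, χ a = χ b → ∃ k < n,
        (b : ZMod (Nat.card F ^ n - 1)) = a * (Nat.card F : ZMod (Nat.card F ^ n - 1)) ^ k) := by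
  obtain ⟨p, hp⟩ := CharP.exists F
  have hpf : Fact p.Prime := ⟨CharP.char_is_prime F p⟩
  have hN0 : n.factorial ≠ 0 := Nat.factorial_ne_zero n
  have hNz : NeZero n.factorial := ⟨hN0⟩
  let K := FiniteField.Extension F p n.factorial
  have hKs : ((X ^ (Nat.card F ^ n.factorial) - X : F[X]).map (algebraMap F K)).Splits :=
    IsSplittingField.splits K _
  have hK : ∀ h : F[X], h.Monic → h.natDegree ≤ n → (h.map (algebraMap F K)).Splits := fun h hm hd =>
    splits_of_le (fun d hd0 hdn => Nat.dvd_factorial hd0 hdn) hN0 hKs h.natDegree hd h hm rfl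
  have hcard : Nat.card Kˣ = Nat.card F ^ n.factorial - 1 := by
    rw [Nat.card_units, FiniteField.natCard_extension]
  have hdvd : Nat.card F ^ n - 1 ∣ Nat.card Kˣ := by
    rw [hcard]
    exact Nat.pow_sub_one_dvd_pow_sub_one _ (Nat.dvd_factorial (by omega) le_rfl)
  have hq : 2 ≤ Nat.card F := Finite.one_lt_card
  have hM1 : 1 < Nat.card F ^ n - 1 := by
    have := lt_pow_sub_one hq hn (i := 0) (by omega)
    rwa [pow_zero] at this
  have hL : NeZero (Nat.card Kˣ) := ⟨Nat.card_pos.ne'⟩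
  have hL1 : 1 < Nat.card Kˣ := hM1.trans_le (Nat.le_of_dvd Nat.card_pos hdvd)
  obtain ⟨θ, hθ⟩ := exists_theta K
  -- lifting the exponents
  choose lift hlift using ZMod.unitsMap_surjective hdvd
  let A : (ZMod (Nat.card F ^ n - 1))ˣ → ℕ := fun a => ((lift a : ZMod (Nat.card Kˣ))).val
  have hAc : ∀ a, (A a).Coprime (Nat.card Kˣ) := fun a => ZMod.val_coe_unit_coprime (lift a)
  have hAM : ∀ a, (A a).Coprime (Nat.card F ^ n - 1) := fun a => (hAc a).coprime_dvd_right hdvd
  have hA0 : ∀ a, A a ≠ 0 := by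
    intro a h0
    have h1 := hAc a
    rw [h0, Nat.coprime_zero_left] at h1
    omega
  have hAa : ∀ a, ((A a : ℕ) : ZMod (Nat.card F ^ n - 1)) = a := by
    intro a
    conv_rhs => rw [← hlift a, ZMod.unitsMap_val]
    exact ZMod.natCast_val _
  let κ : (ZMod (Nat.card F ^ n - 1))ˣ → GL (Fin n) F → ℂ := fun a =>
    kapGL (n := n) (lb (F := F) K (powTheta θ (A a) (hA0 a)))
  have hinner : ∀ a b, classInner (κ a) (κ b) =
      (((Finset.range n ×ˢ Finset.range n).filter fun p =>
        A a * Nat.card F ^ p.1 ≡ A b * Nat.card F ^ p.2 [MOD (Nat.card F ^ n - 1)]).card : ℂ) / n :=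
    fun a b => inner_kapGL (by omega) hK hdvd hθ (hA0 a) (hA0 b)
  have hself : ∀ a, classInner (κ a) (κ a) = 1 := by
    intro a
    rw [hinner, card_pairs_self hq hn (hAM a), div_self]
    exact Nat.cast_ne_zero.2 (by omega)
  have hirr : ∀ a, IsIrrCharacter (GL (Fin n) F) (fun g => (-1) ^ (n - 1) * κ a g) := fun a =>
    isIrr_sign (kapGL_generalized _ (powTheta_injective hθ (hA0 a) (hAc a).symm) hK) (hself a)
      (degP_pos hq n) (kapGL_one (by omega) _)
  refine ⟨fun a => ⟨_, hirr a⟩, ?_, ?_, ?_⟩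
  · intro a
    show (-1 : ℂ) ^ (n - 1) * κ a 1 = _
    have hone : κ a 1 = (-1) ^ (n - 1) * (degP (Nat.card F) n : ℂ) := kapGL_one (by omega) _
    rw [hone, ← mul_assoc, ← mul_pow, neg_one_mul, neg_neg, one_pow, one_mul, Finset.prod_Ico_eq_prod_range,
      degP, Nat.cast_prod]
    refine Finset.prod_congr rfl fun i _ => ?_
    rw [Nat.cast_sub (Nat.one_le_pow _ _ (by omega)), add_comm 1 i]
    push_cast
    rfl
  · intro a m hm hmn
    have h1 := cuspidal_sum (F := F) (lb K (powTheta θ (A a) (hA0 a))) (lb_mul K _) hm hmn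
    have h2 := congrArg (fun z => (-1 : ℂ) ^ (n - 1) * z) h1
    simp only [Finset.mul_sum, mul_zero] at h2
    refine Eq.trans (Finset.sum_congr rfl fun g _ => ?_) h2
    rw [mul_ite, mul_zero]
    rfl
  · intro a b hab
    have h1 : κ a = κ b := by
      have h2 := congrArg Subtype.val hab
      apply _root_.funext
      intro g
      have h3 := congrFun h2 g
      exact mul_left_cancel₀ (pow_ne_zero _ (neg_ne_zero.2 one_ne_zero)) h3
    have h3 : classInner (κ a) (κ b) = 1 := by rw [← h1]; exact hself a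
    rw [hinner] at h3
    have h4 : ((Finset.range n ×ˢ Finset.range n).filter fun p =>
        A a * Nat.card F ^ p.1 ≡ A b * Nat.card F ^ p.2 [MOD (Nat.card F ^ n - 1)]).card ≠ 0 := by
      intro h0
      rw [h0] at h3
      simp at h3
    obtain ⟨k, hk, hk'⟩ := exists_of_card_ne hq hn h4
    refine ⟨k, hk, ?_⟩
    rwa [hAa, hAa] at hk'

end Cfsg.Agent.H139.Cusp
end
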