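import Mathlib.LinearAlgebra.Charpoly.ToMatrix
import Mathlib.LinearAlgebra.Charpoly.BaseChange
import Mathlib.LinearAlgebra.Determinant
import Mathlib.LinearAlgebra.Dimension.Constructions
import Mathlib.LinearAlgebra.FiniteDimensional.Basic
import Mathlib.LinearAlgebra.Basis.VectorSpace
import Mathlib.RingTheory.Artinian.Module
import Mathlib.Data.Complex.Basic
import Mathlib.Data.FunLike.Fintype
import Mathlib.Algebra.BigOperators.Field
set_option linter.all false

/-!
# Möbius inversion of an additive function of the characteristic polynomial over the lattice of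
invariant subspaces, and its vanishing on averages over unipotent radicals

For an additive function `B` on monic polynomials over `F` and an endomorphism `g` of a finite
vector space `V`, `kap B g` is the function on subspaces of `V` that vanishes at subspaces which are
not `g`-invariant and whose sum over the invariant subspaces of an invariant `W` is `B` of the
characteristic polynomial of `g` on `W`.
-/

set_option autoImplicit false

open Polynomial

namespace Cfsg.Agent.H139.Cusp

universe u v v'

/-! ### characteristic polynomials -/

section charpoly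

variable {R V : Type*} [CommRing R] [AddCommGroup V]
    [Module R V] [Module.Finite R V] [Module.Free R V]
    (W : Submodule R V) [Module.Free R W] [Module.Finite R W] [Module.Free R (V ⧸ W)]

open Module.Basis Module in
theorem charpoly_eq_mul (e : V →ₗ[R] V) (he : W ≤ W.comap e) :
    e.charpoly = (e.restrict he).charpoly * (W.mapQ W e he).charpoly := by
  classical
  let m := Module.Free.ChooseBasisIndex R W
  let bW : Basis m R W := Module.Free.chooseBasis R W
  let n := Module.Free.ChooseBasisIndex R (V ⧸ W)
  let bQ : Basis n R (V ⧸ W) := Module.Free.chooseBasis R (V ⧸ W)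
  let b := sumQuot bW bQ
  let A : Matrix m m R := LinearMap.toMatrix bW bW (e.restrict he)
  let B : Matrix m n R := Matrix.of fun i l ↦
    ((sumQuot bW bQ).repr (e ((sumQuot bW bQ) (Sum.inr l)))) (Sum.inl i)
  let D : Matrix n n R := LinearMap.toMatrix bQ bQ (W.mapQ W e he)
  suffices LinearMap.toMatrix b b e = Matrix.fromBlocks A B 0 D by
    rw [← LinearMap.charpoly_toMatrix e b, this, ← LinearMap.charpoly_toMatrix (e.restrict he) bW,
      ← LinearMap.charpoly_toMatrix (W.mapQ W e he) bQ, Matrix.charpoly_fromBlocks_zero₂₁]
  ext u v
  cases u with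
  | inl i =>
    cases v with
    | inl k =>
      simp only [b, sumQuot_inl, Matrix.fromBlocks_apply₁₁, A, LinearMap.toMatrix_apply]
      apply sumQuot_repr_inl_of_mem
    | inr l => simp [b, LinearMap.toMatrix_apply, Matrix.fromBlocks_apply₁₂, B]
  | inr j =>
    cases v with
    | inl k =>
      suffices W.mkQ (e (bW k)) = 0 by simp [LinearMap.toMatrix_apply, b, this]
      rw [← LinearMap.mem_ker, Submodule.ker_mkQ]
      exact he (Submodule.coe_mem (bW k))
    | inr l =>
      simp only [LinearMap.toMatrix_apply, sumQuot_repr_inr,
        Matrix.fromBlocks_apply₂₂, b, D]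
      rw [← sumQuot_inr bW bQ l, W.mapQ_apply]
      simp

end charpoly

section

variable {F : Type u} [Field F]
variable {V : Type v} [AddCommGroup V] [Module F V] [Finite V]
variable {V' : Type v'} [AddCommGroup V'] [Module F V'] [Finite V']

theorem finite_quot (N : Submodule F V) : Finite (V ⧸ N) :=
  Finite.of_surjective N.mkQ N.mkQ_surjective

attribute [local instance] finite_quot

/-- the finite type of linear maps -/
@[reducible] noncomputable def fintypeHom (F : Type*) [Field F] (M N : Type*) [AddCommGroup M] [Module F M]
    [AddCommGroup N] [Module F N] [Finite M] [Finite N] : Fintype (M →ₗ[F] N) :=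
  @Fintype.ofFinite _ (DFunLike.finite _)

/-- the finite type of subspaces -/
@[reducible] noncomputable def fintypeSub (F : Type*) [Field F] (M : Type*) [AddCommGroup M] [Module F M]
    [Finite M] : Fintype (Submodule F M) := Fintype.ofFinite _

attribute [local instance] fintypeHom fintypeSub

theorem charpoly_conj_eq (e : V ≃ₗ[F] V') {g : V →ₗ[F] V} {g' : V' →ₗ[F] V'}
    (h : ∀ v, g' (e v) = e (g v)) : g'.charpoly = g.charpoly := by
  rw [← LinearEquiv.charpoly_conj e g]
  congr 1
  apply LinearMap.ext
  intro v
  rw [LinearEquiv.conj_apply_apply, ← h, LinearEquiv.apply_symm_apply]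

theorem charpoly_restrict_top (g : V →ₗ[F] V) (h : (⊤ : Submodule F V) ≤ (⊤ : Submodule F V).comap g) :
    (g.restrict h).charpoly = g.charpoly :=
  (charpoly_conj_eq (Submodule.topEquiv (R := F) (M := V)) fun _ => rfl).symm

/-! ### the function `kap` -/

open Classical in
/-- Möbius inversion of `B ∘ charpoly` over the lattice of invariant subspaces. -/
noncomputable def kap (B : F[X] → ℂ) (g : V →ₗ[F] V) : Submodule F V → ℂ :=
  WellFounded.fix (wellFounded_lt (α := Submodule F V)) fun W ih =>
    if h : W ≤ W.comap g then
      B (g.restrict h).charpoly - ∑ W' : {W' : Submodule F V // W' < W}, ih W'.1 W'.2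
    else 0

variable (B : F[X] → ℂ)

theorem kap_of_not {g : V →ₗ[F] V} {W : Submodule F V} (h : ¬ W ≤ W.comap g) : kap B g W = 0 := by
  rw [kap, WellFounded.fix_eq, dif_neg h]

open Classical in
theorem kap_eq {g : V →ₗ[F] V} {W : Submodule F V} (h : W ≤ W.comap g) :
    kap B g W = B (g.restrict h).charpoly - ∑ W' ∈ Finset.univ.filter (· < W), kap B g W' := by
  rw [kap, WellFounded.fix_eq, dif_pos h]
  congr 1
  exact (Finset.sum_subtype _ (by simp) _).symm

open Classical in
theorem kap_sum {g : V →ₗ[F] V} {W : Submodule F V} (h : W ≤ W.comap g) :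
    ∑ W' ∈ Finset.univ.filter (· ≤ W), kap B g W' = B (g.restrict h).charpoly := by
  have h1 : Finset.univ.filter (· ≤ W) = insert W (Finset.univ.filter (· < W)) := by
    ext x
    simp only [Finset.mem_filter, Finset.mem_univ, true_and, Finset.mem_insert]
    exact le_iff_eq_or_lt
  rw [h1, Finset.sum_insert (by simp), kap_eq B h]
  ring

theorem kap_sum_top (g : V →ₗ[F] V) : ∑ W : Submodule F V, kap B g W = B g.charpoly := by
  classical
  have h0 : (⊤ : Submodule F V) ≤ (⊤ : Submodule F V).comap g := fun x _ => trivial
  have h := kap_sum B h0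
  rw [congrArg B (charpoly_restrict_top g h0)] at h
  rw [← h]
  refine Finset.sum_congr ?_ fun _ _ => rfl
  ext x
  simp

open Classical in
theorem kap_unique {g : V →ₗ[F] V} {k : Submodule F V → ℂ} (h0 : ∀ W, ¬ W ≤ W.comap g → k W = 0)
    (h1 : ∀ (W) (h : W ≤ W.comap g), ∑ W' ∈ Finset.univ.filter (· ≤ W), k W' = B (g.restrict h).charpoly)
    (W : Submodule F V) : k W = kap B g W := by
  induction W using WellFoundedLT.induction with
  | ind W ih =>
    by_cases h : W ≤ W.comap g
    · rw [kap_eq B h, ← h1 W h]
      have h2 : Finset.univ.filter (· ≤ W) = insert W (Finset.univ.filter (· < W)) := by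
        ext x
        simp only [Finset.mem_filter, Finset.mem_univ, true_and, Finset.mem_insert]
        exact le_iff_eq_or_lt
      rw [h2, Finset.sum_insert (by simp)]
      rw [Finset.sum_congr rfl fun x hx => ih x (Finset.mem_filter.1 hx).2]
      ring
    · rw [h0 W h, kap_of_not B h]

theorem kap_map (j : V →ₗ[F] V') (hj : Function.Injective j) {g : V →ₗ[F] V} {g' : V' →ₗ[F] V'}
    (hg : ∀ v, g' (j v) = j (g v)) (W : Submodule F V) : kap B g' (W.map j) = kap B g W := by
  classical
  have hst : ∀ W : Submodule F V, W.map j ≤ (W.map j).comap g' ↔ W ≤ W.comap g := by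
    intro W
    rw [Submodule.map_le_iff_le_comap]
    constructor
    · intro h x hx
      have h1 := h hx
      rw [Submodule.mem_comap, Submodule.mem_comap, hg] at h1
      obtain ⟨y, hy, hxy⟩ := h1
      rw [Submodule.mem_comap, ← hj hxy]
      exact hy
    · intro h x hx
      rw [Submodule.mem_comap, Submodule.mem_comap, hg]
      exact Submodule.mem_map_of_mem (h hx)
  refine kap_unique B (k := fun W => kap B g' (W.map j)) (fun W hW => ?_) (fun W hW => ?_) W
  · exact kap_of_not B (fun h => hW ((hst W).1 h))
  · have h1 := (hst W).2 hW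
    have h2 := kap_sum B h1
    have h3 : (g'.restrict h1).charpoly = (g.restrict hW).charpoly := by
      refine charpoly_conj_eq (Submodule.equivMapOfInjective j hj W) ?_
      intro v
      apply Subtype.ext
      exact hg v
    rw [← h3, ← h2]
    refine Finset.sum_nbij (fun W' => W'.map j) ?_ ?_ ?_ ?_
    · intro W' hW'
      rw [Finset.mem_filter] at hW' ⊢
      exact ⟨Finset.mem_univ _, Submodule.map_mono hW'.2⟩
    · intro a _ b _ hab
      exact Submodule.map_injective_of_injective hj hab
    · intro Y hY
      rw [Finset.mem_coe, Finset.mem_filter] at hY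
      refine ⟨Y.comap j, ?_, ?_⟩
      · rw [Finset.mem_coe, Finset.mem_filter]
        refine ⟨Finset.mem_univ _, ?_⟩
        have := Submodule.comap_mono (f := j) hY.2
        rwa [Submodule.comap_map_eq_of_injective hj] at this
      · apply Submodule.map_comap_eq_of_le
        exact hY.2.trans (LinearMap.map_le_range)
    · intro _ _
      rfl

end

end Cfsg.Agent.H139.Cusp
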